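import Cfsg.Agent.H399.Gen.PairsM24

/-!
# Generating pairs of `M24` (certificates): elements of order 5 and 7 with elements of order 3
-/

set_option autoImplicit false

namespace Cfsg.Agent.H399.Gen.PairsM24

open Cfsg Cfsg.Agent.H399.Gen.NatChain
open Cfsg.Agent.SporadicStructure.M24El Cfsg.Agent.SporadicA.GolayBase Cfsg.Agent.SporadicA.GolayPerm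

/-- orders 5, 3 -/
def x8 : ℕ := 58641611183022518803728335302641348
/-- second generator -/
def y8 : ℕ := 903070023221259109765707464172963023
/-- inverse -/
def u8 : ℕ := 375656216498375714283082182442536686
/-- inverse -/
def v8 : ℕ := 942061361406798673755810733336401998

/-- chain -/
def L8 : List (ℕ × List (List ℕ)) := [
  (0, [[], [0], [1], [2], [0, 0], [1, 0], [2, 2], [3, 0], [0, 1, 0], [0, 3, 0], [1, 2, 2], [2, 1, 0], [2, 3, 0], [3, 0, 0], [3, 2, 2], [0, 0, 3, 0],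
   [0, 3, 0, 0], [0, 3, 2, 2], [1, 2, 1, 0], [1, 2, 3, 0], [2, 3, 2, 2], [0, 0, 3, 2, 2], [1, 0, 0, 3, 0], [1, 0, 3, 2, 2]]),
  (1, [[], [0, 3], [1, 2], [0, 3, 0, 3], [1, 2, 1, 2], [3, 0, 3, 2], [3, 2, 3, 2], [0, 1, 2, 3, 2], [3, 0, 0, 3, 2], [3, 0, 1, 0, 3], [3, 2, 1, 0,
   3], [3, 2, 2, 3, 2], [0, 1, 0, 0, 3, 2], [0, 1, 0, 1, 0, 3], [0, 3, 0, 3, 0, 3], [1, 2, 1, 2, 1, 2], [1, 2, 3, 2, 3, 2], [2, 2, 3, 0, 1, 0], [3,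
   0, 0, 1, 0, 3], [0, 0, 3, 2, 1, 2, 2], [1, 0, 3, 2, 1, 2, 2], [1, 2, 3, 2, 1, 0, 3], [3, 0, 1, 0, 3, 0, 3]]),
  (2, [[], [3, 0, 1], [3, 2, 1], [3, 0, 0, 1], [3, 2, 2, 1], [1, 0, 3, 0, 1, 2, 3], [2, 1, 2, 3, 2, 1, 0], [2, 2, 1, 0, 1, 0, 0], [2, 2, 3, 2, 3, 0,
   0], [2, 3, 0, 1, 0, 3, 0], [1, 0, 3, 0, 0, 1, 2, 3], [1, 0, 3, 2, 2, 1, 2, 3], [0, 0, 3, 2, 1, 2, 2, 1, 2], [0, 3, 0, 1, 2, 3, 2, 1, 2], [1, 0, 3,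
   0, 1, 2, 1, 0, 1], [2, 2, 3, 2, 1, 2, 3, 0, 0], [3, 0, 3, 0, 3, 0, 1, 2, 3], [0, 3, 0, 1, 0, 0, 3, 2, 1, 2], [1, 0, 1, 0, 3, 0, 1, 2, 1, 0], [1,
   0, 3, 2, 1, 2, 1, 0, 0, 1], [3, 0, 1, 2, 1, 2, 3, 2, 1, 0], [0, 1, 0, 3, 2, 2, 3, 2, 1, 0, 0]]),
  (3, [[], [1, 0, 3, 0, 1, 2, 1, 2, 1], [3, 0, 3, 0, 3, 2, 1, 2, 3], [3, 0, 1, 0, 1, 2, 1, 0, 1, 0, 3, 2], [0, 1, 0, 1, 0, 3, 0, 1, 0, 0, 1, 0, 3],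
   [0, 1, 2, 1, 2, 2, 1, 0, 1, 0, 0, 1, 2], [0, 3, 0, 1, 2, 3, 2, 1, 2, 3, 2, 2, 1], [1, 2, 3, 2, 2, 3, 2, 1, 2, 3, 2, 3, 2], [2, 1, 0, 0, 3, 0, 3,
   0, 1, 2, 3, 0, 1], [3, 0, 0, 1, 0, 3, 0, 1, 0, 3, 2, 1, 2], [3, 0, 0, 1, 2, 2, 1, 0, 3, 0, 1, 0, 0], [3, 2, 1, 0, 3, 2, 1, 2, 1, 2, 2, 3, 0], [3,
   2, 1, 2, 2, 1, 0, 1, 0, 0, 3, 2, 1], [0, 3, 2, 3, 2, 1, 0, 3, 2, 2, 1, 0, 1, 0], [1, 2, 2, 1, 0, 3, 2, 3, 2, 1, 2, 1, 0, 0], [2, 3, 2, 3, 0, 0, 1,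
   2, 3, 0, 1, 0, 1, 2], [3, 0, 0, 3, 0, 3, 2, 2, 1, 2, 1, 2, 2, 1], [3, 2, 1, 0, 3, 2, 3, 0, 1, 0, 3, 0, 0, 3], [1, 0, 3, 2, 3, 0, 3, 0, 1, 2, 1, 0,
   3, 0, 1], [3, 2, 1, 0, 1, 0, 0, 1, 0, 3, 0, 1, 2, 3, 2], [3, 2, 1, 0, 3, 0, 1, 2, 3, 2, 1, 2, 3, 0, 1]]),
  (4, [[], [0, 1, 0, 3, 2, 2, 3, 2, 1, 0, 0, 3, 2, 1], [3, 0, 1, 2, 2, 3, 0, 1, 0, 0, 1, 2, 3, 2], [3, 2, 2, 1, 2, 2, 1, 0, 1, 0, 0, 3, 0, 1], [1, 2,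
   2, 1, 0, 1, 2, 3, 2, 3, 0, 1, 0, 3, 2], [0, 1, 2, 3, 0, 0, 3, 0, 1, 0, 0, 1, 2, 1, 0, 3], [1, 2, 1, 2, 3, 2, 2, 3, 2, 3, 0, 1, 0, 1, 0, 1], [1, 2,
   3, 0, 3, 2, 2, 3, 2, 1, 2, 2, 1, 0, 3, 2], [2, 1, 2, 2, 1, 0, 1, 0, 1, 2, 1, 2, 3, 2, 2, 3], [2, 3, 0, 3, 0, 1, 0, 1, 0, 3, 0, 0, 3, 0, 0, 1], [3,
   2, 2, 1, 2, 2, 1, 2, 3, 2, 3, 2, 1, 2, 1, 0], [3, 2, 3, 0, 0, 1, 2, 2, 3, 2, 3, 2, 3, 2, 3, 0], [3, 2, 3, 2, 3, 2, 1, 0, 1, 0, 0, 1, 0, 3, 0, 3],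
   [0, 0, 1, 2, 3, 0, 1, 0, 1, 2, 2, 1, 2, 1, 0, 3, 2], [1, 0, 3, 0, 3, 2, 3, 2, 1, 2, 3, 0, 1, 2, 2, 3, 0], [1, 2, 3, 2, 1, 2, 1, 2, 3, 2, 1, 2, 1,
   0, 0, 1, 0], [0, 1, 0, 1, 2, 2, 3, 0, 0, 3, 2, 2, 3, 0, 1, 2, 1, 2], [1, 2, 2, 3, 0, 3, 0, 1, 2, 3, 0, 3, 2, 3, 2, 1, 0, 1], [0, 1, 2, 3, 0, 3, 0,
   1, 2, 1, 0, 1, 2, 2, 1, 0, 0, 1, 0], [1, 2, 1, 2, 1, 0, 1, 0, 3, 2, 3, 2, 2, 1, 0, 3, 2, 3, 0]]),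
  (5, [[], [0, 1, 2, 1, 0, 3, 2, 2, 1, 0, 1, 0, 0, 1, 2, 3, 0, 1], [2, 3, 0, 1, 0, 3, 0, 0, 1, 2, 2, 1, 0, 1, 2, 2, 3, 2], [3, 2, 1, 0, 3, 2, 2, 3,
   2, 3, 0, 0, 1, 2, 3, 0, 3, 2], [0, 1, 0, 3, 0, 1, 2, 2, 1, 0, 3, 2, 1, 2, 3, 0, 3, 0, 3, 2], [0, 1, 2, 1, 2, 1, 0, 3, 0, 1, 2, 3, 0, 0, 3, 2, 1,
   2, 3, 2], [2, 3, 0, 3, 2, 1, 2, 2, 2, 3, 2, 2, 3, 2, 3, 2, 3, 0, 0, 3], [2, 3, 0, 1, 0, 3, 0, 0, 0, 3, 0, 1, 2, 1, 2, 1, 0, 1, 0, 1, 0, 3], [0, 0,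
   3, 0, 1, 2, 3, 2, 3, 2, 1, 0, 0, 0, 1, 0, 0, 1, 0, 1, 2, 3, 2, 1, 2], [0, 3, 0, 1, 0, 3, 2, 3, 2, 2, 3, 2, 2, 2, 3, 0, 1, 0, 1, 0, 3, 2, 1, 2, 2],
   [1, 0, 3, 0, 1, 2, 1, 2, 3, 2, 1, 2, 3, 2, 1, 0, 1, 2, 3, 2, 3, 0, 1, 0, 3], [1, 0, 3, 2, 2, 1, 2, 3, 0, 3, 0, 1, 0, 0, 3, 2, 1, 2, 2, 2, 3, 2, 3,
   0, 0], [1, 2, 3, 2, 1, 0, 1, 0, 3, 2, 3, 0, 1, 0, 3, 0, 1, 0, 3, 0, 3, 2, 1, 2, 3], [3, 0, 1, 2, 2, 3, 0, 1, 0, 0, 1, 2, 3, 2, 3, 2, 1, 2, 2, 3,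
   2, 3, 0, 0, 3, 0, 0, 1], [3, 2, 1, 0, 3, 2, 1, 2, 1, 2, 2, 3, 2, 1, 0, 1, 0, 3, 0, 1, 0, 3, 0, 1, 0, 3, 0, 1, 2, 3], [2, 3, 0, 3, 0, 1, 0, 1, 0,
   3, 0, 0, 3, 0, 0, 0, 3, 2, 3, 2, 2, 1, 0, 3, 0, 3, 0, 1, 2, 2, 3, 2]]),
  (6, [[], [0, 1, 0, 3, 2, 2, 3, 2, 1, 0, 0, 3, 2, 3, 0, 0, 1, 0, 3, 0, 3, 2, 3, 2, 3, 0, 0, 3, 0], [2, 1, 2, 2, 1, 0, 1, 0, 1, 2, 1, 2, 3, 2, 2, 1,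
   0, 1, 2, 2, 3, 0, 1, 0, 0, 1, 2, 3, 2]])]

theorem top8 : Subgroup.closure ({el x8, el y8} : Set M24) = ⊤ :=
  closure_eq_top (X' := u8) (Y' := v8) (by decide +kernel) (by decide +kernel) (by decide +kernel) (by decide +kernel)
    (by decide +kernel) (by decide +kernel) L8 (by decide +kernel) (by decide +kernel) SporadicA.M24Trans.card_M24

/-- orders 7, 3 -/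
def x9 : ℕ := 922586731163666269604220649823963179
/-- second generator -/
def y9 : ℕ := 467487381795814582452743954460882135
/-- inverse -/
def u9 : ℕ := 902294181529044414569873094362957860
/-- inverse -/
def v9 : ℕ := 16207646349164339012570679503688811

/-- chain -/
def L9 : List (ℕ × List (List ℕ)) := [
  (0, [[], [0], [1], [2], [0, 0], [0, 1], [1, 2], [2, 2], [3, 2], [0, 0, 0], [0, 0, 1], [1, 0, 0], [2, 1, 2], [2, 2, 1], [2, 2, 2], [3, 0, 0], [3, 2,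
   2], [0, 0, 0, 1], [0, 0, 1, 2], [0, 3, 0, 0], [1, 2, 2, 1], [2, 2, 2, 1], [3, 2, 2, 2], [1, 0, 0, 0, 1]]),
  (1, [[], [1, 0], [2, 3], [0, 1, 2, 1], [2, 3, 2, 3], [3, 0, 3, 2], [0, 0, 3, 0, 1], [3, 2, 1, 2, 2], [1, 0, 0, 1, 2, 1], [2, 3, 0, 1, 2, 1], [0, 3,
   0, 1, 0, 0, 0], [0, 3, 0, 1, 0, 0, 3], [1, 2, 2, 3, 2, 1, 2], [1, 2, 3, 0, 1, 0, 3], [2, 2, 3, 0, 1, 0, 3], [3, 2, 1, 2, 2, 1, 0], [3, 2, 2, 3, 2,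
   2, 1], [3, 2, 2, 3, 2, 3, 2], [0, 0, 0, 1, 2, 2, 1, 2], [0, 0, 0, 3, 0, 3, 2, 2], [0, 1, 0, 1, 0, 0, 3, 0], [2, 2, 1, 2, 3, 0, 0, 0], [2, 2, 1, 2,
   3, 0, 0, 3]]),
  (2, [[], [1, 0, 0, 1, 2, 3, 0], [2, 1, 0, 3, 2, 2, 3], [0, 3, 2, 1, 0, 1, 2, 3], [1, 0, 3, 2, 3, 0, 1, 2], [2, 1, 0, 0, 1, 0, 0, 1], [3, 2, 2, 3,
   2, 2, 3, 0], [1, 0, 0, 1, 0, 1, 0, 0, 1], [3, 2, 1, 0, 3, 0, 1, 0, 1], [3, 2, 2, 1, 2, 3, 0, 0, 1], [3, 2, 2, 3, 2, 3, 2, 2, 3], [0, 0, 3, 2, 1,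
   0, 1, 2, 3, 2], [0, 1, 0, 1, 2, 1, 2, 2, 3, 2], [0, 3, 0, 0, 1, 0, 0, 3, 2, 1], [0, 3, 0, 0, 1, 0, 1, 0, 3, 0], [2, 1, 0, 0, 0, 3, 0, 0, 0, 1],
   [2, 1, 0, 0, 3, 2, 3, 0, 0, 1], [2, 1, 2, 3, 2, 3, 2, 2, 1, 2], [2, 2, 3, 2, 2, 1, 0, 3, 2, 3], [3, 0, 1, 2, 2, 3, 2, 2, 1, 2], [1, 0, 0, 1, 0, 3,
   2, 3, 0, 0, 1], [0, 1, 2, 1, 0, 3, 2, 2, 2, 3, 0, 3]]),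
  (3, [[], [1, 0, 1, 0, 1, 0, 1, 0], [2, 1, 0, 1, 2, 1, 0, 1], [3, 2, 3, 0, 3, 2, 3, 0], [0, 0, 1, 0, 1, 2, 1, 0, 1, 0], [0, 0, 1, 0, 1, 2, 2, 3, 2,
   3], [0, 3, 2, 3, 2, 2, 1, 0, 1, 0], [0, 3, 2, 3, 2, 2, 2, 3, 2, 3], [1, 0, 1, 0, 0, 3, 2, 3, 2, 2], [2, 3, 2, 3, 0, 3, 2, 3, 2, 2], [0, 0, 0, 1,
   0, 1, 2, 2, 1, 0, 1], [1, 0, 1, 2, 2, 2, 3, 2, 3, 0, 0], [2, 1, 0, 1, 0, 3, 2, 3, 2, 2, 2], [2, 2, 3, 0, 3, 2, 1, 2, 3, 2, 1], [0, 0, 1, 0, 1, 0,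
   0, 3, 2, 3, 0, 0], [2, 2, 2, 3, 2, 3, 0, 1, 0, 1, 2, 2], [2, 2, 3, 0, 0, 3, 0, 0, 1, 0, 3, 0], [3, 0, 1, 2, 3, 2, 3, 2, 1, 0, 3, 0], [3, 2, 2, 1,
   2, 2, 1, 2, 3, 2, 2, 3], [2, 2, 2, 1, 0, 1, 0, 3, 2, 3, 0, 0, 0], [1, 0, 3, 2, 3, 2, 3, 0, 0, 1, 2, 1, 0, 3]]),
  (4, [[], [0, 0, 0, 3, 2, 3, 0, 3, 2, 3], [0, 0, 1, 0, 1, 0, 1, 0, 1, 2], [0, 0, 3, 0, 0, 1, 2, 1, 0, 0, 3, 2], [0, 1, 2, 2, 3, 0, 3, 2, 2, 1, 2,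
   2], [1, 2, 1, 0, 0, 3, 0, 3, 2, 3, 0, 3], [3, 0, 1, 0, 0, 3, 0, 3, 2, 3, 2, 1], [3, 2, 3, 2, 1, 0, 3, 0, 1, 0, 1, 0, 1], [0, 0, 3, 0, 1, 2, 3, 2,
   3, 2, 1, 0, 3, 2], [0, 1, 0, 1, 2, 3, 2, 1, 2, 3, 0, 3, 2, 3, 2], [0, 1, 0, 3, 2, 3, 0, 3, 2, 2, 1, 0, 1, 0, 3], [0, 3, 2, 1, 2, 3, 0, 3, 2, 3, 0,
   3, 2, 3, 2], [0, 0, 1, 0, 3, 2, 2, 3, 0, 3, 2, 2, 3, 0, 1, 2], [1, 0, 1, 0, 0, 1, 2, 3, 0, 3, 2, 3, 0, 3, 2, 1], [3, 0, 1, 2, 1, 0, 1, 2, 1, 0, 3,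
   2, 2, 3, 2, 3], [0, 0, 3, 2, 1, 2, 3, 0, 0, 1, 0, 3, 0, 1, 0, 0, 0], [2, 3, 2, 3, 0, 0, 0, 1, 0, 3, 0, 1, 0, 0, 1, 0, 1], [3, 2, 3, 2, 2, 3, 2, 1,
   2, 3, 2, 2, 2, 1, 0, 1, 0], [0, 3, 2, 1, 0, 1, 2, 3, 2, 3, 2, 1, 0, 1, 2, 3, 2, 2], [1, 2, 2, 3, 2, 1, 0, 1, 0, 0, 0, 3, 0, 1, 0, 3, 0, 0]]),
  (5, [[], [1, 0, 0, 1, 0, 3, 2, 3, 0, 0, 3, 0, 0, 1, 2, 3, 0], [2, 1, 0, 3, 2, 2, 1, 2, 2, 1, 0, 1, 2, 3, 2, 2, 3], [1, 0, 0, 0, 1, 0, 3, 0, 0, 1,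
   0, 1, 0, 0, 0, 1, 2, 3], [1, 0, 3, 2, 2, 2, 3, 2, 3, 2, 2, 1, 2, 3, 2, 2, 2, 3], [2, 2, 1, 0, 1, 0, 0, 3, 2, 3, 2, 3, 2, 3, 0, 1, 0, 1], [3, 2, 3,
   2, 1, 0, 1, 0, 1, 0, 1, 2, 2, 3, 2, 3, 0, 0], [0, 0, 1, 0, 1, 0, 0, 0, 3, 2, 1, 2, 3, 2, 2, 3, 2, 3, 2], [0, 1, 0, 1, 0, 0, 1, 0, 3, 0, 1, 2, 2,
   2, 3, 2, 3, 2, 2], [1, 0, 1, 0, 0, 3, 2, 1, 0, 0, 3, 0, 0, 1, 0, 3, 0, 0, 0], [3, 0, 3, 2, 1, 0, 3, 0, 1, 0, 1, 2, 2, 3, 2, 3, 2, 3, 2], [0, 3, 2,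
   3, 2, 3, 2, 3, 2, 2, 1, 0, 1, 2, 1, 0, 1, 2, 2, 2], [0, 1, 0, 1, 2, 1, 0, 1, 2, 1, 0, 1, 2, 3, 2, 3, 0, 3, 2, 3, 0, 3, 2, 3], [1, 0, 1, 2, 1, 0,
   1, 2, 1, 0, 1, 0, 3, 2, 3, 0, 3, 2, 3, 0, 3, 2, 3, 2], [0, 3, 2, 1, 2, 3, 0, 3, 2, 3, 0, 3, 2, 3, 2, 1, 2, 1, 0, 0, 3, 0, 3, 2, 3, 0, 3], [0, 3,
   2, 1, 0, 0, 1, 2, 1, 0, 0, 3, 2, 2, 3, 2, 3, 2, 1, 0, 0, 3, 2, 1, 2, 3, 2, 2, 3]]),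
  (6, [[], [0, 3, 0, 1, 0, 3, 2, 1, 0, 0, 0, 1, 0, 1, 0, 3, 2, 3, 2, 2, 1, 0, 1, 0, 1, 0, 0, 3, 2, 3, 0, 0], [2, 2, 1, 0, 1, 2, 2, 3, 2, 3, 2, 3, 0,
   0, 1, 0, 1, 2, 3, 2, 3, 2, 2, 2, 3, 0, 1, 2, 3, 2, 1, 2]])]

theorem top9 : Subgroup.closure ({el x9, el y9} : Set M24) = ⊤ :=
  closure_eq_top (X' := u9) (Y' := v9) (by decide +kernel) (by decide +kernel) (by decide +kernel) (by decide +kernel)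
    (by decide +kernel) (by decide +kernel) L9 (by decide +kernel) (by decide +kernel) SporadicA.M24Trans.card_M24

end Cfsg.Agent.H399.Gen.PairsM24
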