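import Cfsg.Agent.H399.Gen.Basic
import Cfsg.Agent.H399.Gen.FactsM24
import Cfsg.Agent.H147.Gen.Chain2
import Cfsg.Agent.H867.Gen.Baer
import Cfsg.Agent.H940.RowJ4
import Cfsg.Agent.H715.Fpr.RowTools
import Cfsg.Agent.H208.PiSpor.JFour

/-!
# S4327: the row of `J4`

`2, 3, 5, 7`: all elements are conjugate into `M24`; three conjugates generate `M24`, five conjugates generate `J4`.
`23, 29, 31, 37, 43`: the chain of orders of subgroups. `11`: Baer-Suzuki.
-/

set_option autoImplicit false

namespace Cfsg.Agent.H399.Gen.RowJ4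

open Cfsg Subgroup Cfsg.Agent.H940.Eng Cfsg.Agent.H940.Eng.D Cfsg.Agent.H147.Gen Cfsg.Agent.H399.Gen
open Cfsg.Agent.H940.RowJ4 (G ctx card loc)
open Cfsg.Agent.H208.PiSpor Cfsg.Agent.H867.Gen.Baer Cfsg.Agent.OrdDiv

universe u

instance instFin : Finite G := Cfsg.Agent.H940.RowJ4.fin
instance instSimple : IsSimpleGroup G := Cfsg.Agent.H940.RowJ4.simple

/-! ### the chains -/

/-- `k` conjugates generating a subgroup of order divisible by `r` can be completed by `m` conjugates -/
def Ch (r m : ℕ) : Prop := ∀ x : G, x ≠ 1 → ∀ (k : ℕ) (f : Fin k → G),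
  r ∣ Nat.card (closure (Set.range fun i => f i * x * (f i)⁻¹)) → CG (k + m) x

theorem Ch.of_os (B : Base) {r m : ℕ} (ld : LD) (hld : ld ∈ loc) (os : List ℕ)
    (hc : chkO2 l_j4 n_j4 r ld os [] 20 loc o_j4 = true) (hm : chainOK2 os m = true) : Ch r m :=
  fun _ hx _ f ha => CG.of_eng2 (ctx B) os (fun K h hK => orders2 (ctx B) ld hld os 20 hc K h hK) hm hx f ha

def os43 : List ℕ := [43, 86, 301, 602, 704512, 1409024, 4931584, 9863168]

theorem ch43 (B : Base) : Ch 43 3 :=
  Ch.of_os B ⟨43, 43, [(2, 1), (7, 1), (43, 1)]⟩ (by simp [loc]) os43 (by decide +kernel) (by decide +kernel)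

def os29 : List ℕ := [29, 58, 116, 203, 406, 812, 12180, 24360]

theorem ch29 (B : Base) : Ch 29 4 :=
  Ch.of_os B ⟨29, 29, [(2, 2), (7, 1), (29, 1)]⟩ (by simp [loc]) os29 (by decide +kernel) (by decide +kernel)

def os37 : List ℕ := [37, 74, 111, 148, 222, 444, 70915680, 141831360, 283662720]

theorem ch37 (B : Base) : Ch 37 5 :=
  Ch.of_os B ⟨37, 37, [(2, 2), (3, 1), (37, 1)]⟩ (by simp [loc]) os37 (by decide +kernel) (by decide +kernel)

def os31 : List ℕ := [31, 62, 155, 310, 992, 1984, 4960, 9920, 31744, 32736, 63488, 158720, 163680, 317440, 1015808,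
  1047552, 2031616, 5079040, 5237760, 9999360, 10158080, 19998720, 32505856, 33521664, 65011712, 162529280, 167608320,
  319979520, 325058560, 639959040, 1072693248, 5363466240, 10239344640, 20478689280]

theorem ch31 (B : Base) : Ch 31 7 :=
  Ch.of_os B ⟨31, 31, [(2, 1), (5, 1), (31, 1)]⟩ (by simp [loc]) os31 (by decide +kernel) (by decide +kernel)

def os23 : List ℕ := [23, 46, 253, 506, 6072, 12144, 47104, 94208, 518144, 1036288, 10200960, 12435456, 20401920,
  24870912, 244823040, 489646080, 20891566080, 41783132160, 501397585920]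

theorem ch23 (B : Base) : Ch 23 6 :=
  Ch.of_os B ⟨23, 23, [(2, 1), (11, 1), (23, 1)]⟩ (by simp [loc]) os23 (by decide +kernel) (by decide +kernel)

def osM : List ℕ := [244823040, 489646080, 501397585920]

theorem chM (B : Base) : Ch 244823040 2 :=
  Ch.of_os B ⟨23, 23, [(2, 1), (11, 1), (23, 1)]⟩ (by simp [loc]) osM (by decide +kernel) (by decide +kernel)

theorem Ch.genI {r m : ℕ} (h : Ch r m) (hr : r.Prime) : GenI G (1 + m) r := by
  intro g hg
  have hg1 : g ≠ 1 := by
    rintro rfl
    rw [orderOf_one] at hg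
    exact hr.one_lt.ne hg
  apply h g hg1 1 (fun _ => 1)
  have h1 : g ∈ closure (Set.range fun _ : Fin 1 => (1 : G) * g * (1 : G)⁻¹) := subset_closure ⟨0, by simp⟩
  rw [← hg, ← Subgroup.orderOf_mk g h1]
  exact orderOf_dvd_natCard _

/-! ### the primes 2, 3, 5, 7 -/

/-- elements of order `q` are conjugate into a subgroup of index prime to `q` -/
theorem exists_conj_of_index {L : Type*} [Group L] [Finite L] {q : ℕ} (hq : q.Prime) {M : Subgroup L}
    (hM : ¬ q ∣ M.index) {x : L} (hx : orderOf x = q) : ∃ a : L, a * x * a⁻¹ ∈ M := by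
  have : Fact q.Prime := ⟨hq⟩
  have hP : IsPGroup q (zpowers x) := IsPGroup.of_card (n := 1) (by rw [Nat.card_zpowers, hx, pow_one])
  obtain ⟨y, hy⟩ := hP.nonempty_fixed_point_of_prime_not_dvd_card (L ⧸ M) (by
    rwa [← Subgroup.index_eq_card])
  obtain ⟨g, rfl⟩ := QuotientGroup.mk_surjective y
  have h1 := hy ⟨x, mem_zpowers x⟩
  refine ⟨g⁻¹, ?_⟩
  have h2 : ((x * g : L) : L ⧸ M) = (g : L ⧸ M) := h1
  rw [eq_comm, QuotientGroup.eq] at h2
  rw [inv_inv]
  have e : g⁻¹ * x * g = g⁻¹ * (x * g) := by group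
  rw [e]
  exact h2

theorem index_M24 : J4.Pres.phi.range.index = 354442012672 := by
  have h := card_mul_index J4.Pres.phi.range
  rw [H49.JFourThree.card_range, card, show n_j4 = 244823040 * 354442012672 from by decide +kernel] at h
  exact Nat.eq_of_mul_eq_mul_left (by norm_num) h

/-- elements of `M24` -/
theorem cg_of_M24 (B : Base) {q : ℕ} (hq : q.Prime) {x : G} (hx : x ∈ J4.Pres.phi.range) (ho : orderOf x = q) :
    CG 5 x := by
  obtain ⟨m, rfl⟩ := hx
  have hm : orderOf m = q := by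
    rw [← ho, orderOf_injective _ H49.JFourThree.phi_injective]
  obtain ⟨f, hf⟩ := FactsM24.genI hq m hm
  have hne : J4.Pres.phi m ≠ 1 := by
    intro h
    rw [h, orderOf_one] at ho
    exact hq.one_lt.ne ho
  refine chM B _ hne 3 (fun i => J4.Pres.phi (f i)) ?_
  have h1 : (Set.range fun i => J4.Pres.phi (f i) * J4.Pres.phi m * (J4.Pres.phi (f i))⁻¹) =
      J4.Pres.phi '' (Set.range fun i => f i * m * (f i)⁻¹) := by
    rw [← Set.range_comp]
    congr 1
    funext i
    simp
  rw [h1, ← MonoidHom.map_closure, hf, ← MonoidHom.range_eq_map, H49.JFourThree.card_range]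

theorem gen_small (B : Base) {q : ℕ} (hq : q = 2 ∨ q = 3 ∨ q = 5 ∨ q = 7) : GenI G 5 q := by
  intro x hx
  have hqp : q.Prime := by rcases hq with rfl | rfl | rfl | rfl <;> norm_num
  have h : ∃ a : G, a * x * a⁻¹ ∈ J4.Pres.phi.range := by
    by_cases h2 : q = 2
    · subst h2
      exact JFour.exists_conj_M24 hx
    · apply exists_conj_of_index hqp ?_ hx
      rw [index_M24]
      rcases hq with rfl | rfl | rfl | rfl
      · exact absurd rfl h2
      all_goals norm_num
  obtain ⟨a, ha⟩ := h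
  apply CG.of_conj a
  apply cg_of_M24 B hqp ha
  rw [← hx]
  exact MulEquiv.orderOf_eq (MulAut.conj a) x

/-! ### the prime 11 -/

theorem prime_cases {q : ℕ} (hq : q.Prime) (hd : q ∣ Nat.card G) :
    (q = 2 ∨ q = 3 ∨ q = 5 ∨ q = 7) ∨ q = 11 ∨ q = 23 ∨ q = 29 ∨ q = 31 ∨ q = 37 ∨ q = 43 := by
  have h1 := Cfsg.Agent.H715.Fpr.valid_mem v_j4 hq (by rw [← card]; exact hd)
  simp only [l_j4, List.map_cons, List.map_nil, List.mem_cons, List.not_mem_nil, or_false] at h1
  tauto

theorem gen_eleven (B : Base) : GenI G 10 11 := by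
  intro x hx
  have hp : Nat.Prime 11 := by norm_num
  have hx1 : x ≠ 1 := by
    rintro rfl
    rw [orderOf_one] at hx
    norm_num at hx
  have hN : ¬ IsPGroup 11 (normalClosure {x} : Subgroup G) := by
    intro hP
    rcases (inferInstance : (normalClosure {x} : Subgroup G).Normal).eq_bot_or_eq_top with h1 | h1
    · have h2 : x ∈ (normalClosure {x} : Subgroup G) := subset_normalClosure rfl
      rw [h1, mem_bot] at h2
      exact hx1 h2
    · rw [h1] at hP
      have : Fact (Nat.Prime 11) := ⟨hp⟩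
      obtain ⟨n, hn⟩ := IsPGroup.iff_card.1 (hP.of_equiv topEquiv)
      have h2 : 2 ∣ 11 ^ n := by rw [← hn, card]; decide
      have h3 := Nat.prime_two.dvd_of_dvd_pow h2
      norm_num at h3
  obtain ⟨g, z, q, hq, hqp, ho, hz⟩ := exists_pair hp hN
  have hd : q ∣ Nat.card G := ho ▸ orderOf_dvd_natCard z
  have hch : ∀ {m : ℕ}, Ch q m → m ≤ 8 → CG 10 x := by
    intro m h hm
    have h1 := h x hx1 2 ![1, g] (by
      rw [pair_eq, ← ho]
      exact dvd_card_of_mem hz)
    exact h1.mono (by omega)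
  rcases prime_cases hq hd with h | rfl | rfl | rfl | rfl | rfl | rfl
  · exact CG_of_pair hz (gen_small B h z ho) (by norm_num)
  · exact absurd rfl hqp
  · exact hch (ch23 B) (by norm_num)
  · exact hch (ch29 B) (by norm_num)
  · exact hch (ch31 B) (by norm_num)
  · exact hch (ch37 B) (by norm_num)
  · exact hch (ch43 B) (by norm_num)

theorem genI (B : Base) {p : ℕ} (hp : p.Prime) : GenI G 11 p := by
  by_cases hd : p ∣ Nat.card G
  · rcases prime_cases hp hd with h | rfl | rfl | rfl | rfl | rfl | rfl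
    · exact (gen_small B h).mono (by norm_num)
    · exact (gen_eleven B).mono (by norm_num)
    · exact ((ch23 B).genI hp).mono (by norm_num)
    · exact ((ch29 B).genI hp).mono (by norm_num)
    · exact ((ch31 B).genI hp).mono (by norm_num)
    · exact ((ch37 B).genI hp).mono (by norm_num)
    · exact ((ch43 B).genI hp).mono (by norm_num)
  · intro g hg
    exact absurd (hg ▸ orderOf_dvd_natCard g) hd

/-- **the row of `J4`** (`hin`: all automorphisms are inner) -/
theorem gen_J4 (B : Base) {K : Type u} [Group K] (hc : center K = ⊥)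
    (hin : ∀ x : MulAut K, x ∈ (MulAut.conj : K →* MulAut K).range) (h : Spor.IsoJ4 K) : Gen11 K :=
  gen11_of_inner hc (fun _ hp => (genI B hp).congr h.some.symm) hin

end Cfsg.Agent.H399.Gen.RowJ4
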