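import Cfsg.Agent.H399.Gen.NatChain
import Cfsg.Agent.H865.Three
import Cfsg.Agent.SporadicA.M24Trans
import Cfsg.Agent.J4.M24InvolData

/-!
# Generating pairs of `M24` (certificates)
-/

set_option autoImplicit false

namespace Cfsg.Agent.H399.Gen.PairsM24

open Cfsg Cfsg.Agent.H399.Gen.NatChain
open Cfsg.Agent.SporadicStructure.M24El Cfsg.Agent.SporadicA.GolayBase Cfsg.Agent.SporadicA.GolayPerm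

/-- orders 2, 3 -/
def x1 : ℕ := 726176561355509729351469681034231842
/-- second generator -/
def y1 : ℕ := 774181133956875478070186710967887556
/-- inverse -/
def u1 : ℕ := 726176561355509729351469681034231842
/-- inverse -/
def v1 : ℕ := 458937835835615510533533979998657164

/-- chain -/
def L1 : List (ℕ × List (List ℕ)) := [
  (0, [[], [0], [1], [3], [0, 3], [1, 2], [3, 0], [0, 1, 0], [1, 0, 3], [2, 3, 2], [3, 0, 3], [0, 1, 0, 3], [1, 0, 1, 0], [1, 2, 3, 2], [3, 0, 1, 0],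
   [3, 0, 3, 0], [0, 1, 0, 3, 0], [1, 0, 1, 0, 3], [3, 0, 1, 0, 3], [0, 1, 0, 1, 0, 3], [1, 0, 1, 0, 3, 0], [3, 0, 1, 0, 3, 0], [1, 0, 1, 0, 1, 0,
   3], [3, 0, 1, 0, 1, 0, 3]]),
  (1, [[], [3, 0, 1], [0, 1, 0, 1, 0, 3, 0, 3, 0], [0, 3, 0, 1, 0, 3, 0, 1, 0], [0, 3, 0, 3, 0, 3, 0, 3, 0, 1, 0], [0, 3, 0, 1, 0, 3, 0, 1, 0, 3, 0,
   1], [3, 0, 1, 0, 1, 0, 1, 0, 3, 0, 3, 0], [1, 0, 3, 0, 3, 0, 1, 0, 1, 0, 1, 0, 1, 0, 3], [1, 2, 3, 2, 3, 2, 3, 2, 3, 2, 1, 2, 1, 2, 3], [1, 0, 1,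
   0, 3, 0, 3, 0, 3, 0, 1, 0, 3, 0, 1, 0], [0, 1, 0, 1, 0, 1, 0, 3, 0, 1, 0, 3, 0, 3, 0, 3, 0], [1, 0, 1, 0, 1, 0, 3, 0, 3, 0, 3, 0, 1, 0, 1, 0, 3],
   [1, 0, 3, 0, 1, 0, 1, 0, 1, 0, 1, 0, 1, 0, 1, 0, 3], [1, 0, 3, 0, 3, 0, 1, 0, 1, 0, 1, 0, 1, 0, 1, 0, 1], [1, 0, 3, 0, 3, 0, 3, 0, 3, 0, 1, 0, 1,
   0, 1, 0, 1], [3, 2, 3, 2, 3, 2, 3, 2, 3, 2, 3, 2, 1, 2, 1, 2, 3], [3, 0, 3, 0, 1, 0, 3, 0, 3, 0, 3, 0, 1, 0, 3, 0, 1, 0], [1, 0, 3, 0, 3, 0, 1, 0,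
   1, 0, 3, 0, 3, 0, 1, 0, 1, 0, 1], [1, 0, 3, 0, 3, 0, 3, 0, 3, 0, 3, 0, 3, 0, 1, 0, 1, 0, 1], [3, 2, 3, 2, 3, 2, 1, 2, 1, 2, 1, 2, 1, 2, 1, 2, 1,
   2, 3], [1, 0, 1, 0, 1, 0, 3, 0, 1, 0, 1, 0, 3, 0, 3, 0, 1, 0, 1, 0, 1], [1, 0, 3, 0, 1, 0, 1, 0, 3, 0, 3, 0, 3, 0, 3, 0, 1, 0, 1, 0, 1], [1, 0, 3,
   0, 3, 0, 3, 0, 1, 0, 1, 0, 3, 0, 1, 0, 1, 0, 1, 0, 1]]),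
  (2, [[], [0, 3, 0, 3, 0, 1, 0, 1, 0], [1, 2, 1, 2, 3, 2, 1, 2, 1], [3, 0, 3, 0, 1, 0, 3, 0, 3], [3, 0, 1, 0, 3, 0, 3, 0, 1, 0, 1, 0, 3, 0, 1], [0,
   1, 0, 3, 0, 3, 0, 3, 0, 1, 0, 1, 0, 1, 0, 3, 0], [1, 0, 1, 0, 3, 0, 1, 0, 1, 0, 3, 0, 3, 0, 1, 0, 1, 0], [3, 0, 3, 0, 1, 0, 3, 0, 3, 0, 3, 0, 3,
   0, 1, 0, 1, 0], [3, 0, 1, 0, 1, 0, 3, 0, 3, 0, 1, 0, 1, 0, 3, 0, 3, 0, 1], [3, 0, 1, 0, 3, 0, 1, 0, 1, 0, 3, 0, 3, 0, 1, 0, 3, 0, 1], [3, 0, 1, 0,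
   1, 0, 3, 0, 3, 0, 3, 0, 3, 0, 3, 0, 3, 0, 3, 0], [0, 1, 0, 1, 0, 1, 0, 1, 0, 1, 0, 3, 0, 3, 0, 3, 0, 3, 0, 3, 0], [0, 1, 0, 1, 0, 1, 0, 3, 0, 3,
   0, 1, 0, 1, 0, 3, 0, 3, 0, 3, 0], [0, 3, 0, 1, 0, 1, 0, 1, 0, 3, 0, 3, 0, 3, 0, 1, 0, 1, 0, 3, 0], [0, 3, 0, 1, 0, 1, 0, 1, 0, 3, 0, 3, 0, 1, 0,
   1, 0, 1, 0, 1, 0, 3, 0], [0, 3, 0, 3, 0, 1, 0, 3, 0, 3, 0, 3, 0, 3, 0, 1, 0, 1, 0, 1, 0, 3, 0], [3, 0, 1, 0, 1, 0, 1, 0, 3, 0, 3, 0, 3, 0, 1, 0,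
   3, 0, 3, 0, 1, 0, 1, 0], [0, 1, 0, 3, 0, 3, 0, 3, 0, 3, 0, 1, 0, 1, 0, 3, 0, 3, 0, 1, 0, 1, 0, 1, 0], [0, 3, 0, 3, 0, 3, 0, 3, 0, 3, 0, 1, 0, 1,
   0, 1, 0, 1, 0, 1, 0, 1, 0, 3, 0], [0, 1, 0, 1, 0, 1, 0, 1, 0, 1, 0, 3, 0, 1, 0, 3, 0, 1, 0, 1, 0, 3, 0, 3, 0, 3, 0], [0, 3, 0, 1, 0, 1, 0, 1, 0,
   1, 0, 3, 0, 1, 0, 3, 0, 3, 0, 3, 0, 1, 0, 1, 0, 1, 0], [1, 0, 1, 0, 3, 0, 1, 0, 1, 0, 1, 0, 1, 0, 1, 0, 1, 0, 1, 0, 3, 0, 3, 0, 3, 0, 3, 0, 3,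
   0]]),
  (3, [[], [1, 0, 3, 0, 3, 0, 1, 0, 3, 0, 3, 0, 1, 0, 1, 0, 1, 0, 1, 0, 1], [3, 2, 3, 2, 3, 2, 3, 2, 3, 2, 1, 2, 1, 2, 3, 2, 1, 2, 1, 2, 3], [0, 1,
   0, 1, 0, 1, 0, 1, 0, 3, 0, 1, 0, 3, 0, 1, 0, 1, 0, 3, 0, 3], [1, 2, 1, 2, 3, 2, 3, 2, 1, 2, 3, 2, 1, 2, 3, 2, 3, 2, 3, 2, 3, 2], [0, 1, 0, 3, 0,
   3, 0, 1, 0, 3, 0, 3, 0, 1, 0, 1, 0, 1, 0, 1, 0, 1, 0], [1, 0, 1, 0, 1, 0, 1, 0, 3, 0, 3, 0, 1, 0, 1, 0, 3, 0, 3, 0, 3, 0, 3], [2, 3, 2, 3, 2, 3,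
   2, 3, 2, 3, 2, 1, 2, 1, 2, 3, 2, 1, 2, 1, 2, 3, 2], [3, 0, 1, 0, 1, 0, 1, 0, 1, 0, 3, 0, 1, 0, 3, 0, 3, 0, 3, 0, 3, 0, 1], [0, 1, 0, 1, 0, 3, 0,
   3, 0, 1, 0, 1, 0, 1, 0, 1, 0, 3, 0, 3, 0, 3, 0, 3], [1, 0, 1, 0, 3, 0, 3, 0, 1, 0, 1, 0, 1, 0, 1, 0, 3, 0, 3, 0, 3, 0, 3, 0], [0, 1, 0, 1, 0, 1,
   0, 1, 0, 3, 0, 3, 0, 1, 0, 1, 0, 3, 0, 3, 0, 3, 0, 3, 0], [0, 3, 0, 1, 0, 1, 0, 1, 0, 1, 0, 3, 0, 1, 0, 3, 0, 3, 0, 3, 0, 3, 0, 1, 0], [1, 0, 1,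
   0, 3, 0, 1, 0, 3, 0, 3, 0, 1, 0, 3, 0, 1, 0, 1, 0, 3, 0, 1, 0, 3, 0, 3], [3, 0, 1, 0, 1, 0, 3, 0, 1, 0, 3, 0, 3, 0, 3, 0, 3, 0, 3, 0, 1, 0, 3, 0,
   3, 0, 1, 0, 1, 0, 3, 0, 1], [3, 0, 1, 0, 3, 0, 3, 0, 1, 0, 1, 0, 3, 0, 1, 0, 1, 0, 3, 0, 3, 0, 1, 0, 3, 0, 3, 0, 1, 0, 1, 0, 3, 0, 1, 0], [0, 3,
   0, 1, 0, 1, 0, 1, 0, 3, 0, 3, 0, 1, 0, 1, 0, 1, 0, 3, 0, 1, 0, 3, 0, 3, 0, 1, 0, 1, 0, 3, 0, 3, 0, 3, 0], [1, 0, 1, 0, 1, 0, 1, 0, 3, 0, 3, 0, 1,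
   0, 1, 0, 3, 0, 1, 0, 3, 0, 1, 0, 1, 0, 1, 0, 1, 0, 3, 0, 3, 0, 3, 0, 3, 0], [0, 3, 0, 3, 0, 1, 0, 3, 0, 3, 0, 3, 0, 3, 0, 3, 0, 1, 0, 1, 0, 3, 0,
   3, 0, 1, 0, 1, 0, 1, 0, 1, 0, 1, 0, 3, 0, 1, 0, 1], [1, 0, 1, 0, 3, 0, 1, 0, 1, 0, 3, 0, 1, 0, 1, 0, 1, 0, 3, 0, 3, 0, 1, 0, 1, 0, 1, 0, 1, 0, 3,
   0, 1, 0, 1, 0, 3, 0, 1, 0, 1], [1, 0, 3, 0, 3, 0, 1, 0, 3, 0, 3, 0, 1, 0, 1, 0, 1, 0, 1, 0, 3, 0, 1, 0, 3, 0, 3, 0, 1, 0, 1, 0, 1, 0, 1, 0, 3, 0,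
   3, 0, 3, 0, 3, 0]]),
  (4, [[], [1, 0, 1, 0, 3, 0, 3, 0, 1, 0, 1, 0, 3, 0, 3, 0, 1, 0, 1, 0, 3, 0, 3], [1, 0, 1, 0, 3, 0, 1, 0, 1, 0, 1, 0, 1, 0, 3, 0, 1, 0, 3, 0, 3, 0,
   3, 0, 3, 0, 1, 0, 3, 0, 3, 0], [2, 1, 2, 1, 2, 3, 2, 1, 2, 1, 2, 1, 2, 1, 2, 3, 2, 1, 2, 3, 2, 3, 2, 3, 2, 3, 2, 1, 2, 3, 2, 3], [3, 0, 3, 0, 1,
   0, 3, 0, 3, 0, 1, 0, 1, 0, 3, 0, 3, 0, 1, 0, 1, 0, 1, 0, 1, 0, 3, 0, 1, 0, 1, 0, 1], [3, 0, 3, 0, 1, 0, 3, 0, 3, 0, 3, 0, 1, 0, 1, 0, 1, 0, 3, 0,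
   3, 0, 3, 0, 1, 0, 1, 0, 1, 0, 3, 0, 1, 0, 1, 0], [0, 3, 0, 3, 0, 1, 0, 3, 0, 1, 0, 1, 0, 1, 0, 1, 0, 3, 0, 1, 0, 3, 0, 1, 0, 1, 0, 3, 0, 3, 0, 1,
   0, 3, 0, 1, 0, 1, 0], [3, 0, 1, 0, 3, 0, 1, 0, 1, 0, 3, 0, 3, 0, 3, 0, 3, 0, 3, 0, 1, 0, 1, 0, 1, 0, 1, 0, 1, 0, 3, 0, 3, 0, 1, 0, 3, 0, 1], [3,
   0, 3, 0, 3, 0, 1, 0, 1, 0, 1, 0, 1, 0, 1, 0, 1, 0, 1, 0, 3, 0, 3, 0, 3, 0, 3, 0, 3, 0, 3, 0, 3, 0, 1, 0, 1, 0, 1], [1, 0, 1, 0, 3, 0, 3, 0, 1, 0,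
   1, 0, 3, 0, 3, 0, 3, 0, 1, 0, 1, 0, 1, 0, 3, 0, 1, 0, 3, 0, 3, 0, 3, 0, 3, 0, 1, 0, 3, 0, 3, 0], [0, 3, 0, 3, 0, 1, 0, 1, 0, 3, 0, 1, 0, 1, 0, 3,
   0, 3, 0, 1, 0, 1, 0, 3, 0, 3, 0, 3, 0, 1, 0, 3, 0, 1, 0, 1, 0, 3, 0, 3, 0, 1, 0, 1, 0], [0, 1, 0, 3, 0, 3, 0, 3, 0, 1, 0, 1, 0, 3, 0, 1, 0, 1, 0,
   1, 0, 3, 0, 1, 0, 3, 0, 1, 0, 1, 0, 3, 0, 3, 0, 3, 0, 3, 0, 3, 0, 1, 0, 3, 0, 3], [0, 1, 0, 3, 0, 3, 0, 3, 0, 1, 0, 1, 0, 3, 0, 1, 0, 1, 0, 1, 0,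
   3, 0, 1, 0, 3, 0, 1, 0, 1, 0, 1, 0, 1, 0, 3, 0, 3, 0, 3, 0, 3, 0, 1, 0, 3, 0, 3, 0], [3, 0, 3, 0, 3, 0, 3, 0, 3, 0, 1, 0, 1, 0, 3, 0, 1, 0, 1, 0,
   1, 0, 3, 0, 1, 0, 3, 0, 1, 0, 1, 0, 3, 0, 3, 0, 1, 0, 1, 0, 3, 0, 3, 0, 1, 0, 3, 0, 1, 0, 1], [3, 2, 3, 2, 1, 2, 3, 2, 1, 2, 1, 2, 3, 2, 3, 2, 1,
   2, 1, 2, 3, 2, 3, 2, 1, 2, 3, 2, 1, 2, 3, 2, 3, 2, 3, 2, 1, 2, 3, 2, 3, 2, 1, 2, 1, 2, 1, 2, 1, 2, 1], [1, 2, 1, 2, 3, 2, 3, 2, 3, 2, 3, 2, 1, 2,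
   3, 2, 3, 2, 3, 2, 1, 2, 1, 2, 3, 2, 3, 2, 1, 2, 1, 2, 3, 2, 3, 2, 1, 2, 3, 2, 3, 2, 1, 2, 1, 2, 1, 2, 1, 2, 1, 2], [3, 2, 3, 2, 3, 2, 3, 2, 3, 2,
   1, 2, 1, 2, 3, 2, 1, 2, 3, 2, 3, 2, 1, 2, 3, 2, 3, 2, 1, 2, 3, 2, 1, 2, 1, 2, 1, 2, 1, 2, 3, 2, 1, 2, 3, 2, 3, 2, 3, 2, 3, 2], [1, 0, 1, 0, 3, 0,
   3, 0, 1, 0, 1, 0, 3, 0, 3, 0, 1, 0, 1, 0, 3, 0, 3, 0, 1, 0, 1, 0, 3, 0, 1, 0, 1, 0, 1, 0, 1, 0, 3, 0, 1, 0, 3, 0, 3, 0, 3, 0, 3, 0, 1, 0, 3, 0,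
   3], [3, 0, 3, 0, 3, 0, 3, 0, 3, 0, 1, 0, 1, 0, 3, 0, 1, 0, 3, 0, 1, 0, 1, 0, 3, 0, 3, 0, 1, 0, 1, 0, 3, 0, 3, 0, 1, 0, 3, 0, 1, 0, 3, 0, 3, 0, 1,
   0, 1, 0, 1, 0, 1, 0, 1], [3, 0, 3, 0, 3, 0, 3, 0, 3, 0, 1, 0, 1, 0, 3, 0, 1, 0, 3, 0, 3, 0, 1, 0, 1, 0, 3, 0, 1, 0, 1, 0, 1, 0, 3, 0, 3, 0, 3, 0,
   1, 0, 1, 0, 3, 0, 3, 0, 3, 0, 1, 0, 3, 0, 3]]),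
  (5, [[], [1, 0, 3, 0, 1, 0, 3, 0, 1, 0, 3], [3, 0, 1, 0, 3, 0, 3, 0, 3, 0, 1, 0, 3, 0, 1, 0, 1, 0, 1, 0, 3, 0, 1], [0, 3, 0, 1, 0, 3, 0, 3, 0, 3,
   0, 1, 0, 3, 0, 1, 0, 1, 0, 1, 0, 3, 0, 1, 0], [1, 0, 3, 0, 3, 0, 1, 0, 3, 0, 3, 0, 1, 0, 1, 0, 1, 0, 3, 0, 3, 0, 3, 0, 1, 0, 3, 0, 1, 0, 3, 0, 3,
   0, 3, 0, 1], [3, 2, 1, 2, 1, 2, 1, 2, 3, 2, 1, 2, 3, 2, 1, 2, 1, 2, 1, 2, 3, 2, 3, 2, 3, 2, 1, 2, 1, 2, 3, 2, 1, 2, 1, 2, 3], [1, 0, 3, 0, 1, 0,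
   1, 0, 1, 0, 3, 0, 3, 0, 1, 0, 1, 0, 1, 0, 3, 0, 3, 0, 3, 0, 1, 0, 3, 0, 1, 0, 3, 0, 3, 0, 3, 0, 1], [3, 2, 1, 2, 1, 2, 1, 2, 3, 2, 1, 2, 3, 2, 1,
   2, 1, 2, 1, 2, 3, 2, 3, 2, 3, 2, 1, 2, 1, 2, 3, 2, 3, 2, 3, 2, 1, 2, 3], [0, 3, 0, 3, 0, 3, 0, 3, 0, 3, 0, 1, 0, 3, 0, 1, 0, 3, 0, 3, 0, 1, 0, 3,
   0, 1, 0, 1, 0, 3, 0, 3, 0, 3, 0, 1, 0, 1, 0, 3, 0], [1, 0, 3, 0, 1, 0, 3, 0, 1, 0, 1, 0, 1, 0, 1, 0, 1, 0, 3, 0, 1, 0, 3, 0, 1, 0, 1, 0, 1, 0, 3,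
   0, 3, 0, 3, 0, 1, 0, 1, 0, 3, 0, 1, 0, 1, 0, 3], [1, 0, 3, 0, 1, 0, 3, 0, 1, 0, 1, 0, 1, 0, 1, 0, 1, 0, 3, 0, 1, 0, 3, 0, 1, 0, 1, 0, 1, 0, 3, 0,
   3, 0, 3, 0, 1, 0, 1, 0, 3, 0, 3, 0, 3, 0, 1, 0, 3], [3, 0, 1, 0, 3, 0, 3, 0, 3, 0, 1, 0, 3, 0, 1, 0, 1, 0, 3, 0, 1, 0, 3, 0, 1, 0, 3, 0, 1, 0, 1,
   0, 1, 0, 3, 0, 3, 0, 3, 0, 1, 0, 1, 0, 3, 0, 1, 0, 1, 0, 3], [1, 0, 3, 0, 1, 0, 3, 0, 1, 0, 3, 0, 3, 0, 3, 0, 3, 0, 3, 0, 3, 0, 1, 0, 3, 0, 1, 0,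
   3, 0, 3, 0, 1, 0, 3, 0, 1, 0, 1, 0, 3, 0, 3, 0, 3, 0, 1, 0, 1, 0, 3, 0], [1, 0, 1, 0, 3, 0, 1, 0, 3, 0, 3, 0, 1, 0, 3, 0, 1, 0, 3, 0, 1, 0, 3, 0,
   3, 0, 3, 0, 3, 0, 1, 0, 1, 0, 3, 0, 3, 0, 1, 0, 1, 0, 1, 0, 3, 0, 3, 0, 1, 0, 3, 0, 3], [3, 0, 1, 0, 3, 0, 3, 0, 3, 0, 1, 0, 3, 0, 1, 0, 1, 0, 1,
   0, 3, 0, 3, 0, 3, 0, 3, 0, 1, 0, 3, 0, 3, 0, 1, 0, 1, 0, 1, 0, 3, 0, 3, 0, 3, 0, 1, 0, 3, 0, 1, 0, 3, 0, 3, 0, 3, 0, 1], [3, 2, 3, 2, 3, 2, 3, 2,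
   3, 2, 1, 2, 1, 2, 3, 2, 1, 2, 1, 2, 3, 2, 1, 2, 1, 2, 1, 2, 1, 2, 3, 2, 3, 2, 3, 2, 3, 2, 1, 2, 1, 2, 1, 2, 3, 2, 1, 2, 3, 2, 3, 2, 1, 2, 1, 2, 1,
   2, 1, 2, 1]]),
  (6, [[], [1, 0, 3, 0, 1, 0, 3, 0, 1, 0, 1, 0, 1, 0, 1, 0, 1, 0, 3, 0, 1, 0, 3, 0, 1, 0, 1, 0, 1, 0, 3, 0, 3, 0, 3, 0, 1, 0, 1, 0, 3, 0, 1, 0, 1, 0,
   1, 0, 1, 0, 3, 0, 3, 0, 3, 0, 1, 0, 3, 0, 1, 0, 1, 0, 1, 0, 3, 0, 1], [3, 2, 1, 2, 3, 2, 3, 2, 3, 2, 1, 2, 3, 2, 1, 2, 1, 2, 1, 2, 3, 2, 3, 2, 3,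
   2, 3, 2, 1, 2, 3, 2, 3, 2, 1, 2, 1, 2, 1, 2, 3, 2, 3, 2, 3, 2, 1, 2, 3, 2, 1, 2, 3, 2, 3, 2, 3, 2, 3, 2, 3, 2, 1, 2, 3, 2, 1, 2, 3]])]

theorem top1 : Subgroup.closure ({el x1, el y1} : Set M24) = ⊤ :=
  closure_eq_top (X' := u1) (Y' := v1) (by decide +kernel) (by decide +kernel) (by decide +kernel) (by decide +kernel)
    (by decide +kernel) (by decide +kernel) L1 (by decide +kernel) (by decide +kernel) SporadicA.M24Trans.card_M24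

/-- orders 2, 3 -/
def x2 : ℕ := 521366414552910786153029034648536137
/-- second generator -/
def y2 : ℕ := 587610965183916154067255885919526963
/-- inverse -/
def u2 : ℕ := 521366414552910786153029034648536137
/-- inverse -/
def v2 : ℕ := 851108235656351690482612958249725994

/-- chain -/
def L2 : List (ℕ × List (List ℕ)) := [
  (0, [[], [0], [1], [3], [0, 1], [0, 3], [1, 0, 1], [1, 0, 3], [3, 0, 1], [3, 2, 3], [0, 1, 0, 1], [0, 3, 0, 3], [1, 0, 1, 0, 1], [3, 0, 1, 0, 1],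
   [0, 1, 0, 1, 0, 1], [0, 3, 0, 1, 0, 1], [1, 0, 1, 0, 1, 0, 1], [3, 0, 1, 0, 1, 0, 1], [0, 1, 0, 1, 0, 1, 0, 1], [0, 3, 0, 1, 0, 1, 0, 1], [1, 0,
   3, 0, 1, 0, 1, 0, 1], [3, 0, 3, 0, 1, 0, 1, 0, 1], [0, 1, 0, 3, 0, 1, 0, 1, 0, 1], [0, 3, 0, 3, 0, 1, 0, 1, 0, 1]]),
  (1, [[], [0, 1, 0], [2, 3, 2], [1, 2, 3, 2, 3, 2, 1], [3, 0, 1, 0, 1, 0, 3], [1, 0, 1, 0, 1, 0, 3, 0, 3], [1, 0, 3, 0, 3, 0, 1, 0, 3, 0], [2, 1, 2,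
   1, 2, 3, 2, 3, 2, 1], [2, 3, 2, 1, 2, 3, 2, 3, 2, 1], [3, 0, 1, 0, 1, 0, 3, 0, 1, 0], [3, 0, 1, 0, 1, 0, 3, 0, 3, 0], [1, 0, 1, 0, 3, 0, 1, 0, 3,
   0, 1], [3, 2, 1, 2, 3, 2, 1, 2, 3, 2, 3], [0, 1, 0, 1, 0, 1, 0, 1, 0, 3, 0, 3], [0, 3, 0, 1, 0, 1, 0, 1, 0, 3, 0, 3], [0, 1, 0, 3, 0, 1, 0, 1, 0,
   3, 0, 1, 0], [0, 3, 0, 3, 0, 1, 0, 1, 0, 3, 0, 1, 0], [1, 0, 3, 0, 3, 0, 3, 0, 3, 0, 3, 0, 1], [2, 3, 2, 1, 2, 3, 2, 3, 2, 1, 2, 3, 2], [3, 0, 3,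
   0, 1, 0, 1, 0, 3, 0, 1, 0, 1], [3, 2, 3, 2, 1, 2, 3, 2, 3, 2, 1, 2, 1], [1, 0, 1, 0, 3, 0, 1, 0, 3, 0, 1, 0, 1, 0], [1, 0, 1, 0, 3, 0, 1, 0, 3, 0,
   1, 0, 3, 0]]),
  (2, [[], [1, 0, 3, 0, 1, 0, 1, 0, 1, 0, 3, 0, 3, 0, 1, 0, 3], [1, 0, 3, 0, 3, 0, 1, 0, 1, 0, 3, 0, 1, 0, 1, 0, 3], [1, 2, 3, 2, 1, 2, 1, 2, 3, 2,
   3, 2, 3, 2, 1, 2, 3], [1, 2, 3, 2, 3, 2, 1, 2, 3, 2, 3, 2, 1, 2, 1, 2, 3], [0, 1, 0, 1, 0, 3, 0, 3, 0, 3, 0, 3, 0, 3, 0, 1, 0, 1, 0], [2, 3, 2, 3,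
   2, 1, 2, 1, 2, 1, 2, 1, 2, 1, 2, 3, 2, 3, 2], [1, 0, 1, 0, 1, 0, 1, 0, 3, 0, 3, 0, 3, 0, 3, 0, 1, 0, 1, 0], [1, 0, 1, 0, 3, 0, 3, 0, 1, 0, 1, 0,
   1, 0, 1, 0, 1, 0, 1, 0, 3], [1, 2, 3, 2, 3, 2, 3, 2, 3, 2, 3, 2, 3, 2, 1, 2, 1, 2, 3, 2, 3], [3, 0, 1, 0, 3, 0, 3, 0, 1, 0, 1, 0, 1, 0, 1, 0, 3,
   0, 1, 0, 1], [3, 2, 3, 2, 1, 2, 3, 2, 3, 2, 3, 2, 3, 2, 1, 2, 1, 2, 3, 2, 1], [0, 1, 0, 1, 0, 3, 0, 3, 0, 1, 0, 1, 0, 3, 0, 1, 0, 1, 0, 3, 0, 3,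
   0], [0, 1, 0, 1, 0, 3, 0, 3, 0, 1, 0, 3, 0, 1, 0, 3, 0, 3, 0, 1, 0, 1, 0], [0, 3, 0, 3, 0, 1, 0, 1, 0, 3, 0, 1, 0, 1, 0, 3, 0, 3, 0, 1, 0, 1, 0],
   [0, 3, 0, 3, 0, 3, 0, 3, 0, 3, 0, 3, 0, 1, 0, 1, 0, 1, 0, 1, 0, 1, 0], [2, 3, 2, 3, 2, 1, 2, 1, 2, 3, 2, 1, 2, 3, 2, 1, 2, 1, 2, 3, 2, 3, 2], [3,
   0, 1, 0, 3, 0, 1, 0, 3, 0, 1, 0, 1, 0, 3, 0, 3, 0, 1, 0, 3, 0, 1], [0, 1, 0, 1, 0, 1, 0, 3, 0, 1, 0, 1, 0, 1, 0, 3, 0, 3, 0, 3, 0, 1, 0, 3], [0,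
   1, 0, 1, 0, 1, 0, 3, 0, 1, 0, 3, 0, 1, 0, 3, 0, 3, 0, 1, 0, 1, 0, 3], [1, 0, 1, 0, 3, 0, 1, 0, 3, 0, 1, 0, 1, 0, 3, 0, 3, 0, 1, 0, 1, 0, 3, 0, 1,
   0, 1], [0, 3, 0, 3, 0, 3, 0, 3, 0, 3, 0, 3, 0, 1, 0, 1, 0, 3, 0, 1, 0, 1, 0, 1, 0, 1, 0, 3, 0, 3, 0]]),
  (3, [[], [0, 1, 0, 1, 0, 1, 0, 3, 0, 3, 0, 3], [1, 2, 1, 2, 1, 2, 3, 2, 3, 2, 3, 2], [0, 3, 0, 1, 0, 1, 0, 3, 0, 3, 0, 3, 0, 1, 0], [0, 3, 0, 3, 0,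
   3, 0, 1, 0, 1, 0, 3, 0, 1, 0, 1, 0, 1, 0], [2, 3, 2, 3, 2, 3, 2, 1, 2, 3, 2, 3, 2, 1, 2, 1, 2, 1, 2], [0, 1, 0, 1, 0, 3, 0, 1, 0, 3, 0, 3, 0, 1,
   0, 1, 0, 1, 0, 3, 0, 1, 0, 3], [1, 0, 1, 0, 1, 0, 1, 0, 1, 0, 3, 0, 3, 0, 1, 0, 1, 0, 1, 0, 3, 0, 1, 0, 3], [0, 3, 0, 1, 0, 1, 0, 1, 0, 3, 0, 1,
   0, 3, 0, 1, 0, 1, 0, 3, 0, 1, 0, 1, 0, 1, 0], [0, 3, 0, 1, 0, 1, 0, 3, 0, 3, 0, 1, 0, 3, 0, 1, 0, 1, 0, 3, 0, 1, 0, 1, 0, 1, 0], [0, 3, 0, 3, 0,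
   3, 0, 1, 0, 1, 0, 3, 0, 1, 0, 3, 0, 1, 0, 3, 0, 3, 0, 3, 0, 1, 0], [2, 3, 2, 3, 2, 3, 2, 1, 2, 3, 2, 3, 2, 1, 2, 3, 2, 1, 2, 1, 2, 3, 2, 3, 2, 1,
   2], [2, 3, 2, 3, 2, 3, 2, 1, 2, 3, 2, 3, 2, 1, 2, 3, 2, 1, 2, 3, 2, 3, 2, 3, 2, 1, 2], [0, 1, 0, 3, 0, 3, 0, 1, 0, 1, 0, 3, 0, 1, 0, 1, 0, 3, 0,
   1, 0, 1, 0, 1, 0, 3, 0, 3], [3, 0, 3, 0, 1, 0, 1, 0, 3, 0, 1, 0, 1, 0, 1, 0, 3, 0, 3, 0, 1, 0, 3, 0, 3, 0, 1, 0, 1], [3, 2, 3, 2, 1, 2, 1, 2, 3,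
   2, 1, 2, 1, 2, 3, 2, 3, 2, 3, 2, 1, 2, 3, 2, 3, 2, 1, 2, 1], [0, 1, 0, 1, 0, 1, 0, 3, 0, 3, 0, 3, 0, 3, 0, 3, 0, 3, 0, 1, 0, 1, 0, 3, 0, 1, 0, 1,
   0, 1, 0], [1, 0, 1, 0, 1, 0, 1, 0, 1, 0, 3, 0, 3, 0, 1, 0, 1, 0, 1, 0, 3, 0, 3, 0, 1, 0, 3, 0, 3, 0, 3, 0], [1, 0, 1, 0, 3, 0, 3, 0, 1, 0, 1, 0,
   1, 0, 3, 0, 1, 0, 1, 0, 1, 0, 1, 0, 3, 0, 1, 0, 1, 0, 1, 0, 3], [0, 3, 0, 1, 0, 1, 0, 1, 0, 3, 0, 1, 0, 3, 0, 1, 0, 1, 0, 3, 0, 1, 0, 3, 0, 1, 0,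
   3, 0, 3, 0, 3, 0, 1, 0], [2, 3, 2, 1, 2, 1, 2, 1, 2, 3, 2, 1, 2, 3, 2, 1, 2, 3, 2, 3, 2, 1, 2, 3, 2, 1, 2, 3, 2, 3, 2, 3, 2, 1, 2]]),
  (4, [[], [0, 1, 0, 3, 0, 1, 0, 3, 0, 3, 0, 3, 0, 1, 0, 1, 0, 3, 0, 1, 0, 3, 0, 3], [0, 3, 0, 1, 0, 1, 0, 3, 0, 3, 0, 3, 0, 3, 0, 1, 0, 1, 0, 3, 0,
   3, 0, 3], [1, 2, 1, 2, 1, 2, 3, 2, 3, 2, 1, 2, 1, 2, 1, 2, 1, 2, 3, 2, 3, 2, 1, 2], [1, 2, 1, 2, 3, 2, 1, 2, 3, 2, 3, 2, 1, 2, 1, 2, 1, 2, 3, 2,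
   1, 2, 3, 2], [1, 0, 1, 0, 1, 0, 1, 0, 3, 0, 3, 0, 1, 0, 1, 0, 1, 0, 3, 0, 1, 0, 3, 0, 1, 0, 1, 0, 1, 0, 3, 0, 3], [1, 2, 1, 2, 3, 2, 3, 2, 3, 2,
   1, 2, 3, 2, 1, 2, 3, 2, 3, 2, 3, 2, 1, 2, 1, 2, 3, 2, 3, 2, 3, 2, 3], [0, 3, 0, 1, 0, 1, 0, 1, 0, 3, 0, 3, 0, 1, 0, 3, 0, 1, 0, 3, 0, 3, 0, 3, 0,
   1, 0, 1, 0, 1, 0, 3, 0, 1, 0], [1, 0, 1, 0, 1, 0, 3, 0, 1, 0, 3, 0, 1, 0, 1, 0, 3, 0, 1, 0, 1, 0, 3, 0, 1, 0, 1, 0, 3, 0, 3, 0, 3, 0, 3, 0], [0,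
   3, 0, 1, 0, 1, 0, 3, 0, 3, 0, 3, 0, 3, 0, 1, 0, 1, 0, 1, 0, 1, 0, 3, 0, 3, 0, 1, 0, 1, 0, 1, 0, 3, 0, 1, 0, 3, 0], [0, 3, 0, 3, 0, 3, 0, 1, 0, 1,
   0, 3, 0, 1, 0, 3, 0, 1, 0, 3, 0, 3, 0, 1, 0, 3, 0, 1, 0, 3, 0, 3, 0, 1, 0, 1, 0, 1, 0], [2, 3, 2, 3, 2, 3, 2, 1, 2, 1, 2, 3, 2, 1, 2, 3, 2, 1, 2,
   1, 2, 3, 2, 1, 2, 3, 2, 1, 2, 3, 2, 3, 2, 1, 2, 1, 2, 1, 2], [0, 3, 0, 3, 0, 1, 0, 1, 0, 1, 0, 1, 0, 3, 0, 1, 0, 3, 0, 1, 0, 1, 0, 1, 0, 1, 0, 3,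
   0, 1, 0, 3, 0, 3, 0, 3, 0, 1, 0, 3], [0, 3, 0, 3, 0, 3, 0, 1, 0, 1, 0, 3, 0, 3, 0, 1, 0, 3, 0, 1, 0, 1, 0, 1, 0, 3, 0, 1, 0, 1, 0, 1, 0, 3, 0, 3,
   0, 1, 0, 1], [0, 3, 0, 3, 0, 3, 0, 1, 0, 3, 0, 3, 0, 3, 0, 3, 0, 1, 0, 1, 0, 3, 0, 3, 0, 3, 0, 3, 0, 1, 0, 1, 0, 1, 0, 3, 0, 3, 0, 1], [1, 0, 1,
   0, 1, 0, 1, 0, 1, 0, 3, 0, 3, 0, 1, 0, 1, 0, 1, 0, 3, 0, 1, 0, 3, 0, 3, 0, 1, 0, 1, 0, 3, 0, 3, 0, 3, 0, 1, 0], [1, 2, 3, 2, 1, 2, 1, 2, 1, 2, 3,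
   2, 1, 2, 3, 2, 3, 2, 3, 2, 3, 2, 1, 2, 3, 2, 1, 2, 3, 2, 3, 2, 3, 2, 3, 2, 1, 2, 1, 2], [0, 3, 0, 1, 0, 1, 0, 3, 0, 3, 0, 3, 0, 3, 0, 3, 0, 3, 0,
   1, 0, 1, 0, 3, 0, 1, 0, 1, 0, 3, 0, 1, 0, 1, 0, 3, 0, 3, 0, 3, 0, 3, 0], [0, 3, 0, 3, 0, 3, 0, 1, 0, 1, 0, 3, 0, 1, 0, 1, 0, 1, 0, 1, 0, 1, 0, 1,
   0, 3, 0, 3, 0, 1, 0, 1, 0, 1, 0, 3, 0, 3, 0, 3, 0, 1, 0], [1, 0, 1, 0, 1, 0, 3, 0, 3, 0, 1, 0, 3, 0, 3, 0, 1, 0, 3, 0, 3, 0, 1, 0, 3, 0, 1, 0, 3,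
   0, 3, 0, 1, 0, 3, 0, 1, 0, 1, 0, 3, 0, 1, 0, 1, 0, 1, 0]]),
  (5, [[], [0, 3, 0, 3, 0, 3, 0, 1, 0, 1, 0, 3, 0, 1, 0, 3, 0, 3, 0, 3, 0, 3, 0, 1, 0, 1, 0, 1, 0, 3, 0, 1], [3, 2, 1, 2, 3, 2, 3, 2, 3, 2, 1, 2, 1,
   2, 1, 2, 1, 2, 3, 2, 1, 2, 3, 2, 3, 2, 1, 2, 1, 2, 1, 2], [1, 0, 1, 0, 1, 0, 3, 0, 3, 0, 1, 0, 3, 0, 3, 0, 3, 0, 3, 0, 3, 0, 1, 0, 1, 0, 3, 0, 1,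
   0, 3, 0, 3, 0, 1, 0, 3, 0, 3, 0, 1, 0, 1, 0], [2, 3, 2, 3, 2, 1, 2, 1, 2, 3, 2, 1, 2, 1, 2, 3, 2, 1, 2, 3, 2, 3, 2, 1, 2, 1, 2, 1, 2, 1, 2, 1, 2,
   3, 2, 1, 2, 1, 2, 3, 2, 3, 2, 3], [0, 3, 0, 3, 0, 3, 0, 1, 0, 1, 0, 3, 0, 1, 0, 1, 0, 1, 0, 1, 0, 1, 0, 3, 0, 3, 0, 3, 0, 1, 0, 1, 0, 1, 0, 1, 0,
   3, 0, 3, 0, 3, 0, 1, 0, 1, 0, 1, 0, 3, 0, 3], [1, 2, 1, 2, 3, 2, 3, 2, 3, 2, 1, 2, 1, 2, 1, 2, 3, 2, 3, 2, 3, 2, 3, 2, 1, 2, 1, 2, 1, 2, 3, 2, 3,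
   2, 3, 2, 3, 2, 3, 2, 1, 2, 3, 2, 3, 2, 1, 2, 1, 2, 1, 2], [3, 0, 1, 0, 3, 0, 3, 0, 3, 0, 1, 0, 1, 0, 1, 0, 3, 0, 1, 0, 1, 0, 1, 0, 3, 0, 3, 0, 3,
   0, 1, 0, 1, 0, 1, 0, 1, 0, 3, 0, 3, 0, 3, 0, 1, 0, 1, 0, 1, 0, 3, 0, 3], [0, 3, 0, 1, 0, 1, 0, 1, 0, 3, 0, 1, 0, 3, 0, 1, 0, 1, 0, 3, 0, 1, 0, 1,
   0, 3, 0, 1, 0, 3, 0, 1, 0, 3, 0, 3, 0, 1, 0, 1, 0, 1, 0, 3, 0, 3, 0, 1, 0, 3, 0, 3, 0, 3, 0], [2, 1, 2, 1, 2, 1, 2, 3, 2, 1, 2, 1, 2, 3, 2, 3, 2,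
   3, 2, 1, 2, 1, 2, 3, 2, 1, 2, 3, 2, 1, 2, 3, 2, 3, 2, 1, 2, 3, 2, 3, 2, 1, 2, 3, 2, 1, 2, 3, 2, 3, 2, 3, 2, 1, 2], [0, 3, 0, 3, 0, 3, 0, 1, 0, 3,
   0, 3, 0, 1, 0, 3, 0, 1, 0, 3, 0, 3, 0, 3, 0, 3, 0, 1, 0, 1, 0, 1, 0, 3, 0, 1, 0, 1, 0, 1, 0, 3, 0, 1, 0, 1, 0, 1, 0, 1, 0, 3, 0, 1, 0, 1, 0, 1, 0,
   3], [1, 0, 1, 0, 3, 0, 3, 0, 3, 0, 1, 0, 3, 0, 1, 0, 3, 0, 3, 0, 1, 0, 3, 0, 1, 0, 1, 0, 3, 0, 1, 0, 1, 0, 3, 0, 3, 0, 1, 0, 3, 0, 3, 0, 3, 0, 3,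
   0, 3, 0, 1, 0, 3, 0, 1, 0, 3, 0, 3, 0, 1], [1, 0, 1, 0, 1, 0, 1, 0, 1, 0, 3, 0, 3, 0, 1, 0, 1, 0, 1, 0, 3, 0, 1, 0, 3, 0, 3, 0, 1, 0, 1, 0, 3, 0,
   3, 0, 3, 0, 1, 0, 1, 0, 1, 0, 3, 0, 1, 0, 3, 0, 3, 0, 1, 0, 1, 0, 1, 0, 3, 0, 1, 0, 3, 0], [1, 0, 1, 0, 1, 0, 3, 0, 3, 0, 1, 0, 1, 0, 1, 0, 1, 0,
   3, 0, 1, 0, 3, 0, 1, 0, 3, 0, 3, 0, 3, 0, 1, 0, 3, 0, 3, 0, 1, 0, 1, 0, 1, 0, 3, 0, 3, 0, 3, 0, 1, 0, 1, 0, 3, 0, 1, 0, 3, 0, 1, 0, 1, 0], [2, 1,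
   2, 3, 2, 1, 2, 3, 2, 3, 2, 3, 2, 1, 2, 1, 2, 3, 2, 1, 2, 3, 2, 3, 2, 3, 2, 1, 2, 1, 2, 1, 2, 3, 2, 3, 2, 1, 2, 1, 2, 3, 2, 1, 2, 3, 2, 3, 2, 3, 2,
   1, 2, 1, 2, 3, 2, 3, 2, 3, 2, 3, 2, 3], [0, 3, 0, 1, 0, 1, 0, 3, 0, 3, 0, 3, 0, 1, 0, 1, 0, 1, 0, 3, 0, 3, 0, 1, 0, 1, 0, 1, 0, 1, 0, 1, 0, 1, 0,
   1, 0, 1, 0, 3, 0, 1, 0, 3, 0, 3, 0, 1, 0, 1, 0, 3, 0, 3, 0, 3, 0, 1, 0, 3, 0, 1, 0, 3, 0, 1]]),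
  (6, [[], [1, 0, 1, 0, 1, 0, 3, 0, 3, 0, 1, 0, 1, 0, 1, 0, 1, 0, 3, 0, 3, 0, 3, 0, 1, 0, 1, 0, 3, 0, 3, 0, 3, 0, 3, 0, 1, 0, 1, 0, 3, 0, 3, 0, 3, 0,
   1, 0, 1, 0, 1, 0, 1, 0, 3, 0, 3, 0, 3, 0], [2, 1, 2, 1, 2, 1, 2, 3, 2, 3, 2, 3, 2, 3, 2, 1, 2, 1, 2, 1, 2, 3, 2, 3, 2, 1, 2, 1, 2, 1, 2, 1, 2, 3,
   2, 3, 2, 1, 2, 1, 2, 1, 2, 3, 2, 3, 2, 3, 2, 3, 2, 1, 2, 1, 2, 3, 2, 3, 2, 3]])]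

theorem top2 : Subgroup.closure ({el x2, el y2} : Set M24) = ⊤ :=
  closure_eq_top (X' := u2) (Y' := v2) (by decide +kernel) (by decide +kernel) (by decide +kernel) (by decide +kernel)
    (by decide +kernel) (by decide +kernel) L2 (by decide +kernel) (by decide +kernel) SporadicA.M24Trans.card_M24

/-- orders 3, 3 -/
def x3 : ℕ := 960825421553334439665008362244049969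
/-- second generator -/
def y3 : ℕ := 608820120309282753896304720133426614
/-- inverse -/
def u3 : ℕ := 965132897695136284939816039732028463
/-- inverse -/
def v3 : ℕ := 374758780931360589749738900413290997

/-- chain -/
def L3 : List (ℕ × List (List ℕ)) := [
  (0, [[], [0], [1], [2], [3], [0, 1], [0, 3], [1, 0], [1, 2], [2, 1], [2, 3], [3, 0], [3, 2], [1, 0, 3], [1, 2, 1], [1, 2, 3], [3, 0, 3], [3, 2, 3],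
   [0, 1, 2, 1], [0, 1, 2, 3], [0, 3, 0, 3], [2, 1, 2, 1], [2, 1, 2, 3], [1, 0, 3, 0, 3]]),
  (1, [[], [0, 1, 0, 3, 2], [2, 1, 0, 3, 0], [2, 1, 2, 3, 0], [3, 0, 1, 0, 1], [3, 2, 3, 2, 1], [0, 3, 0, 3, 0, 3, 2], [1, 2, 3, 2, 3, 0, 3], [2, 3,
   0, 3, 0, 3, 0], [2, 3, 2, 3, 0, 3, 0], [3, 0, 1, 2, 1, 0, 1], [3, 2, 3, 0, 3, 2, 1], [0, 1, 0, 1, 2, 3, 0, 3, 2], [1, 0, 3, 0, 1, 0, 1, 2, 1], [1,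
   0, 3, 0, 1, 0, 3, 0, 1], [1, 2, 1, 0, 3, 0, 1, 0, 3], [1, 2, 3, 0, 1, 2, 1, 2, 1], [2, 1, 0, 1, 2, 3, 0, 3, 0], [2, 3, 0, 1, 2, 1, 0, 3, 2], [3,
   0, 3, 2, 3, 2, 1, 2, 3], [3, 2, 1, 0, 3, 2, 1, 0, 3], [1, 2, 1, 2, 3, 0, 3, 2, 3, 0, 1], [3, 0, 3, 0, 1, 2, 1, 0, 3, 0, 3]]),
  (2, [[], [2, 3, 0, 1, 0], [2, 3, 2, 1, 0], [1, 0, 1, 0, 3, 2, 3], [1, 0, 1, 2, 3, 2, 3], [0, 1, 0, 3, 0, 1, 2, 3, 0], [0, 3, 0, 1, 0, 3, 0, 1, 0],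
   [0, 3, 0, 1, 0, 3, 2, 1, 0], [0, 3, 2, 1, 0, 3, 2, 1, 0], [2, 1, 0, 1, 0, 3, 2, 3, 0], [0, 3, 0, 3, 0, 1, 2, 3, 2, 3, 2], [2, 1, 0, 3, 2, 3, 0, 3,
   2, 3, 2], [2, 1, 0, 3, 2, 3, 2, 3, 2, 3, 2], [2, 3, 0, 3, 0, 1, 0, 3, 2, 3, 0], [2, 3, 2, 3, 0, 1, 0, 3, 2, 3, 0], [3, 0, 3, 0, 1, 2, 3, 2, 1, 2,
   1], [1, 0, 1, 0, 3, 2, 3, 2, 3, 0, 1, 0], [1, 0, 1, 0, 3, 2, 3, 2, 3, 2, 1, 0], [1, 0, 1, 2, 3, 2, 3, 2, 3, 0, 1, 0], [1, 0, 1, 2, 3, 2, 3, 2, 3,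
   2, 1, 0], [1, 2, 3, 2, 1, 0, 3, 2, 1, 0, 3, 0, 3], [2, 1, 0, 3, 2, 3, 0, 1, 0, 1, 2, 3, 0]]),
  (3, [[], [0, 3, 0, 1, 2], [0, 3, 2, 1, 2], [0, 1, 0, 3, 0, 3, 2, 3, 2, 3, 0], [2, 1, 0, 1, 0, 3, 2, 1, 0, 1, 0], [2, 3, 2, 3, 0, 3, 2, 1, 2, 3, 2],
   [0, 1, 2, 1, 0, 1, 0, 3, 2, 3, 0, 3, 0], [0, 3, 0, 3, 0, 3, 0, 1, 2, 1, 0, 1, 0], [0, 3, 2, 3, 0, 3, 0, 1, 2, 1, 0, 1, 0], [2, 1, 0, 1, 0, 1, 2,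
   1, 2, 1, 0, 1, 2], [2, 1, 2, 1, 0, 1, 2, 3, 2, 3, 0, 3, 2], [2, 3, 0, 3, 0, 1, 0, 3, 2, 1, 2, 1, 0], [2, 3, 0, 3, 0, 1, 2, 3, 2, 1, 2, 1, 0], [2,
   3, 2, 3, 0, 3, 2, 1, 2, 1, 0, 1, 2], [2, 3, 2, 3, 0, 3, 2, 1, 2, 1, 2, 1, 2], [3, 0, 3, 2, 1, 0, 1, 0, 3, 2, 3, 0, 3], [0, 1, 0, 3, 0, 1, 2, 1, 0,
   1, 2, 3, 2, 1, 2], [0, 1, 0, 3, 0, 3, 2, 3, 2, 3, 2, 3, 2, 1, 2], [0, 3, 0, 1, 0, 1, 0, 1, 0, 3, 2, 1, 0, 1, 0], [2, 1, 0, 1, 0, 3, 2, 1, 0, 1, 2,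
   3, 2, 1, 2], [1, 0, 3, 2, 3, 2, 3, 2, 3, 2, 1, 0, 3, 2, 1, 2, 3]]),
  (4, [[], [0, 3, 2, 1, 0, 3, 2, 3, 0, 1, 2, 3, 2, 3, 0], [2, 1, 0, 1, 0, 3, 2, 1, 0, 1, 2, 3, 0, 1, 2], [3, 0, 1, 0, 3, 0, 1, 0, 3, 2, 1, 2, 3, 2,
   1], [3, 0, 1, 0, 3, 0, 1, 2, 3, 2, 1, 2, 3, 2, 1], [2, 3, 0, 1, 0, 1, 0, 3, 2, 3, 0, 3, 2, 1, 0, 1], [3, 2, 3, 0, 1, 2, 1, 0, 1, 2, 3, 2, 3, 2, 1,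
   0], [2, 3, 0, 3, 0, 3, 2, 3, 2, 1, 0, 1, 2, 1, 2, 1, 0], [0, 1, 0, 3, 0, 1, 2, 1, 0, 3, 0, 1, 0, 1, 2, 1, 2, 3, 2], [0, 1, 0, 3, 0, 3, 2, 3, 2, 1,
   2, 3, 0, 3, 2, 1, 2, 3, 2], [2, 1, 0, 3, 2, 3, 0, 3, 2, 3, 0, 1, 0, 3, 2, 1, 2, 3, 2], [2, 3, 2, 1, 2, 3, 2, 3, 0, 3, 0, 3, 0, 3, 2, 1, 2, 1, 0],
   [2, 3, 0, 1, 0, 3, 2, 1, 0, 3, 2, 3, 0, 3, 2, 1, 2, 1, 2, 1], [0, 1, 0, 1, 2, 1, 0, 3, 2, 1, 2, 3, 0, 1, 0, 1, 2, 3, 2, 3, 2, 1, 2], [0, 3, 0, 1,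
   0, 1, 0, 3, 2, 3, 2, 1, 0, 3, 0, 1, 2, 3, 0, 3, 2, 3, 2], [2, 3, 0, 3, 0, 1, 0, 3, 0, 3, 0, 3, 0, 1, 0, 1, 0, 3, 0, 3, 0, 3, 2], [0, 1, 2, 1, 0,
   1, 0, 3, 2, 3, 2, 1, 2, 1, 0, 1, 2, 1, 2, 1, 2, 3, 0, 1], [0, 3, 0, 1, 2, 3, 0, 1, 0, 1, 2, 1, 0, 3, 0, 1, 0, 3, 0, 1, 0, 1, 2, 1], [2, 1, 0, 3,
   0, 1, 0, 3, 0, 1, 0, 1, 0, 3, 0, 3, 2, 3, 0, 1, 2, 3, 2, 3], [2, 1, 2, 1, 0, 1, 2, 3, 2, 3, 0, 1, 2, 1, 0, 1, 0, 1, 0, 3, 2, 1, 0, 1, 0]]),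
  (5, [[], [3, 2, 1, 2, 3, 0, 1, 2, 3, 0, 1, 0, 3, 2, 1, 0, 3, 0, 1], [3, 2, 1, 2, 3, 0, 1, 2, 3, 2, 1, 0, 3, 2, 1, 0, 3, 0, 1], [0, 3, 0, 1, 0, 1,
   0, 1, 0, 3, 2, 1, 0, 1, 2, 1, 2, 1, 0, 1, 0, 3, 2, 3, 0, 3, 0], [2, 1, 2, 1, 0, 1, 2, 3, 2, 3, 0, 3, 0, 3, 2, 3, 0, 1, 2, 3, 2, 3, 2, 3, 2, 1, 2],
   [2, 1, 0, 1, 0, 1, 2, 1, 2, 3, 0, 3, 0, 1, 2, 3, 0, 3, 0, 1, 2, 3, 2, 3, 0, 3, 0, 1, 0], [2, 3, 0, 3, 0, 1, 2, 3, 2, 1, 2, 1, 2, 3, 0, 1, 0, 3, 2,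
   3, 0, 3, 2, 1, 2, 1, 2, 1, 2], [2, 3, 2, 1, 2, 1, 0, 1, 0, 3, 2, 1, 2, 1, 0, 3, 2, 1, 2, 1, 0, 3, 0, 3, 2, 3, 2, 3, 0], [2, 3, 0, 1, 0, 3, 2, 1,
   0, 3, 2, 3, 0, 3, 2, 1, 2, 3, 0, 3, 0, 1, 0, 3, 2, 1, 2, 3, 2, 1], [2, 3, 0, 3, 0, 1, 0, 3, 2, 1, 0, 3, 0, 3, 2, 1, 2, 1, 2, 3, 2, 1, 0, 1, 0, 3,
   2, 3, 0, 3, 0], [2, 3, 2, 1, 0, 3, 0, 3, 0, 1, 0, 3, 2, 1, 2, 1, 2, 3, 0, 3, 0, 1, 2, 1, 2, 1, 2, 1, 0, 1, 2], [3, 2, 3, 0, 1, 2, 1, 0, 1, 2, 3,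
   2, 3, 0, 3, 0, 3, 2, 1, 2, 3, 0, 1, 0, 1, 0, 1, 2, 1, 2, 3, 2], [2, 3, 0, 1, 0, 1, 0, 3, 2, 3, 0, 3, 2, 1, 0, 1, 2, 3, 0, 3, 0, 3, 2, 3, 0, 1, 0,
   1, 2, 1, 2, 1, 0], [0, 3, 0, 3, 0, 3, 0, 1, 2, 1, 0, 3, 2, 1, 0, 1, 2, 3, 2, 3, 0, 1, 0, 1, 0, 1, 0, 1, 0, 3, 2, 1, 0, 1, 0], [1, 0, 1, 0, 3, 2,
   3, 2, 1, 0, 1, 2, 3, 2, 1, 2, 1, 0, 1, 0, 1, 0, 3, 2, 3, 2, 3, 2, 3, 0, 1, 2, 3, 2, 3, 0], [3, 0, 1, 0, 3, 0, 1, 0, 3, 2, 1, 2, 3, 2, 1, 2, 3, 2,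
   1, 0, 1, 0, 3, 0, 1, 0, 1, 2, 3, 2, 3, 0, 3, 0, 3, 2, 3, 0, 1]]),
  (6, [[], [0, 1, 0, 1, 0, 1, 0, 1, 2, 1, 0, 1, 2, 3, 0, 1, 2, 1, 0, 1, 0, 3, 2, 3, 0, 3, 0, 3, 0, 3, 0, 1, 2, 1, 0, 1, 0], [2, 3, 2, 3, 0, 3, 2, 1,
   2, 1, 2, 1, 2, 1, 0, 1, 2, 3, 2, 3, 0, 3, 2, 1, 0, 3, 2, 3, 0, 3, 2, 3, 2, 3, 2, 3, 2]])]

theorem top3 : Subgroup.closure ({el x3, el y3} : Set M24) = ⊤ :=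
  closure_eq_top (X' := u3) (Y' := v3) (by decide +kernel) (by decide +kernel) (by decide +kernel) (by decide +kernel)
    (by decide +kernel) (by decide +kernel) L3 (by decide +kernel) (by decide +kernel) SporadicA.M24Trans.card_M24

/-- orders 3, 3 -/
def x4 : ℕ := 513063896757474546024332297931070020
/-- second generator -/
def y4 : ℕ := 374136161413957100934796561526471361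
/-- inverse -/
def u4 : ℕ := 559840854971286823976171656505141876
/-- inverse -/
def v4 : ℕ := 541437825332792489087197739091208214

/-- chain -/
def L4 : List (ℕ × List (List ℕ)) := [
  (0, [[], [0], [1], [2], [3], [0, 1], [0, 3], [1, 0], [1, 2], [3, 0], [3, 2], [0, 1, 2], [0, 3, 0], [1, 0, 1], [1, 0, 3], [2, 1, 2], [2, 3, 0], [3,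
   0, 1], [0, 1, 0, 1], [0, 1, 0, 3], [0, 3, 0, 1], [1, 2, 1, 2], [2, 1, 0, 3], [3, 2, 1, 2]]),
  (1, [[], [0, 1, 2, 3], [1, 0, 3, 2], [2, 3, 2, 1], [3, 0, 1, 0], [0, 3, 2, 3, 0, 3], [0, 1, 0, 1, 0, 1, 2], [2, 1, 0, 1, 0, 3, 0], [2, 1, 2, 3, 2,
   3, 0], [3, 0, 1, 2, 1, 2, 3], [1, 0, 3, 2, 3, 0, 1, 0], [2, 1, 0, 1, 0, 1, 2, 1], [2, 3, 2, 1, 0, 1, 2, 3], [2, 3, 2, 1, 2, 3, 2, 1], [3, 0, 3, 0,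
   1, 0, 3, 0], [3, 0, 3, 2, 3, 2, 3, 0], [3, 2, 1, 0, 3, 2, 1, 2], [3, 2, 1, 2, 3, 0, 3, 0], [0, 3, 0, 1, 0, 3, 0, 3, 0], [1, 2, 3, 0, 1, 0, 1, 0,
   3], [2, 3, 0, 1, 0, 3, 2, 1, 2], [3, 2, 1, 2, 3, 0, 1, 2, 1], [2, 3, 0, 1, 0, 3, 0, 3, 0, 3]]),
  (2, [[], [0, 1, 0, 1, 0, 3, 2, 3], [1, 0, 1, 2, 3, 2, 3, 2], [2, 1, 0, 3, 0, 3, 0, 1], [3, 2, 1, 2, 1, 2, 3, 0], [0, 3, 0, 3, 2, 1, 2, 1, 0], [2,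
   3, 0, 3, 0, 1, 2, 1, 2], [2, 1, 2, 3, 0, 3, 2, 1, 2, 1], [2, 3, 0, 1, 0, 3, 2, 3, 2, 3], [2, 3, 2, 3, 0, 3, 0, 3, 2, 1], [3, 0, 3, 0, 1, 2, 1, 0,
   3, 0], [0, 1, 0, 3, 2, 1, 0, 1, 2, 1, 0], [2, 3, 0, 3, 2, 3, 0, 1, 2, 3, 2], [3, 0, 1, 0, 1, 0, 1, 2, 3, 0, 3], [3, 2, 3, 0, 1, 2, 1, 2, 3, 0, 1,
   0], [0, 1, 2, 1, 2, 3, 0, 3, 0, 1, 2, 3, 0], [1, 0, 3, 0, 1, 2, 1, 2, 1, 2, 1, 0, 1], [1, 0, 3, 2, 3, 2, 3, 2, 3, 0, 1, 0, 3], [1, 2, 3, 2, 1, 0,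
   1, 0, 1, 0, 1, 2, 3], [2, 3, 0, 1, 2, 3, 0, 3, 0, 3, 0, 1, 0], [2, 3, 2, 1, 2, 1, 2, 1, 0, 3, 2, 1, 0], [3, 0, 1, 2, 3, 0, 1, 0, 1, 2, 1, 2, 1]]),
  (3, [[], [0, 1, 0, 1, 2, 1, 2, 3, 2, 1, 0], [2, 3, 0, 1, 0, 3, 0, 3, 2, 3, 2], [1, 2, 1, 0, 1, 2, 1, 2, 1, 0, 1, 2], [3, 0, 3, 0, 3, 0, 3, 0, 1, 2,
   3, 2, 1], [0, 3, 0, 1, 0, 1, 0, 3, 0, 1, 0, 3, 0, 1], [2, 1, 2, 3, 0, 1, 2, 3, 2, 1, 0, 3, 2, 1], [3, 0, 1, 2, 3, 0, 1, 0, 3, 2, 1, 0, 3, 0], [3,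
   2, 1, 2, 3, 2, 1, 2, 3, 2, 3, 2, 1, 2], [1, 2, 1, 0, 1, 0, 1, 0, 3, 2, 1, 2, 1, 0, 1], [1, 2, 3, 2, 3, 0, 1, 0, 3, 0, 1, 2, 1, 0, 1], [2, 1, 0, 3,
   0, 3, 2, 1, 2, 1, 2, 1, 0, 1, 0], [2, 3, 2, 3, 0, 3, 0, 3, 0, 1, 2, 1, 2, 3, 0], [3, 2, 3, 0, 3, 2, 1, 2, 3, 2, 1, 0, 1, 0, 3], [0, 3, 0, 3, 2, 1,
   0, 1, 0, 3, 0, 3, 2, 1, 0, 1], [1, 0, 3, 0, 3, 2, 1, 2, 3, 0, 1, 2, 3, 0, 3, 0], [1, 2, 3, 2, 3, 0, 3, 0, 3, 0, 1, 0, 1, 2, 1, 0], [2, 3, 0, 3, 2,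
   3, 2, 1, 2, 1, 2, 1, 0, 1, 0, 3], [3, 2, 3, 0, 1, 2, 1, 2, 3, 2, 3, 0, 1, 2, 1, 2], [3, 2, 3, 0, 3, 0, 1, 2, 3, 0, 1, 2, 1, 0, 1, 2], [3, 0, 1, 0,
   3, 0, 1, 2, 1, 0, 3, 2, 3, 2, 1, 2, 3, 2]]),
  (4, [[], [1, 2, 1, 2, 3, 2, 1, 0, 1, 2, 1, 2, 3, 2, 1, 2, 1], [3, 0, 3, 0, 1, 0, 3, 0, 3, 2, 3, 0, 1, 0, 3, 0, 3], [0, 3, 0, 1, 0, 1, 2, 3, 0, 1,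
   2, 1, 2, 3, 2, 1, 0, 1], [0, 3, 0, 3, 2, 3, 2, 3, 2, 1, 0, 3, 2, 3, 2, 3, 0, 3], [1, 2, 1, 0, 1, 0, 1, 2, 3, 0, 1, 0, 1, 0, 1, 2, 1, 2], [3, 2, 3,
   0, 1, 0, 3, 0, 3, 2, 1, 0, 3, 2, 3, 2, 1, 2], [0, 1, 0, 1, 0, 3, 2, 1, 2, 3, 2, 1, 0, 3, 2, 3, 0, 1, 2], [0, 3, 2, 1, 0, 1, 2, 3, 0, 1, 0, 3, 0,
   1, 2, 3, 2, 3, 2], [1, 0, 3, 0, 3, 0, 3, 0, 1, 2, 3, 2, 1, 2, 1, 2, 1, 2, 3, 0], [2, 1, 0, 3, 0, 3, 0, 3, 0, 1, 0, 3, 2, 1, 2, 1, 2, 1, 2, 3], [3,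
   2, 1, 2, 1, 2, 3, 0, 1, 0, 3, 2, 3, 0, 3, 2, 1, 2, 3, 2, 1, 2], [3, 2, 3, 2, 3, 0, 1, 0, 3, 2, 1, 0, 1, 0, 1, 2, 3, 0, 3, 0, 3, 2, 1], [0, 3, 0,
   3, 2, 1, 0, 1, 0, 3, 0, 1, 2, 1, 2, 1, 0, 3, 0, 1, 0, 1, 2, 1, 0], [0, 3, 2, 3, 0, 3, 0, 1, 2, 3, 2, 1, 2, 3, 0, 3, 2, 3, 0, 3, 0, 3, 0, 1, 0, 3,
   0], [2, 3, 2, 1, 2, 3, 2, 3, 0, 3, 2, 3, 0, 1, 2, 3, 0, 1, 0, 1, 0, 3, 0, 1, 0, 3, 0, 1], [3, 0, 3, 0, 1, 0, 3, 0, 3, 2, 3, 0, 1, 2, 1, 0, 1, 2,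
   3, 0, 1, 0, 1, 0, 1, 2, 1, 2], [3, 2, 1, 2, 3, 2, 1, 2, 3, 2, 3, 2, 1, 0, 3, 2, 1, 0, 1, 2, 1, 0, 1, 0, 3, 0, 1, 0], [3, 0, 1, 0, 3, 2, 1, 2, 3,
   2, 1, 2, 3, 0, 3, 0, 3, 2, 3, 2, 1, 0, 1, 0, 1, 0, 1, 2, 3], [2, 3, 2, 3, 0, 3, 0, 3, 2, 1, 2, 3, 2, 1, 0, 1, 2, 1, 2, 1, 2, 3, 0, 3, 2, 3, 2, 3,
   0, 3]]),
  (5, [[], [1, 0, 1, 2, 1, 0, 1, 2, 3, 2, 3, 0, 3, 0, 1, 2, 1], [2, 1, 0, 1, 0, 3, 0, 3, 2, 1, 2, 1, 0, 3, 2, 3, 0], [2, 1, 0, 1, 2, 3, 0, 3, 0, 1,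
   2, 1, 2, 3, 2, 3, 0], [3, 0, 3, 2, 1, 2, 1, 0, 1, 0, 3, 2, 3, 0, 3, 2, 3], [1, 2, 1, 0, 1, 0, 1, 0, 3, 2, 1, 2, 1, 0, 1, 2, 1, 2, 3, 0, 1, 2, 3,
   2, 1, 0, 3, 2, 1], [3, 0, 1, 2, 3, 0, 1, 0, 3, 2, 1, 0, 3, 0, 3, 2, 3, 0, 3, 0, 1, 2, 3, 2, 3, 2, 3, 0, 3], [0, 3, 2, 3, 0, 3, 2, 1, 0, 1, 0, 3,
   2, 1, 2, 1, 2, 3, 0, 1, 2, 1, 2, 3, 2, 1, 0, 3, 2, 3, 2, 3], [1, 0, 1, 0, 1, 2, 3, 0, 1, 0, 3, 0, 3, 2, 1, 0, 3, 0, 3, 0, 1, 2, 3, 2, 3, 0, 1, 2,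
   1, 0, 1, 2], [0, 3, 0, 3, 2, 1, 0, 1, 2, 1, 2, 1, 0, 3, 2, 1, 2, 1, 0, 1, 0, 3, 0, 1, 0, 1, 2, 1, 2, 1, 0, 1, 2], [0, 3, 2, 3, 0, 3, 0, 3, 2, 3,
   2, 1, 2, 3, 2, 3, 0, 3, 0, 1, 2, 3, 0, 3, 0, 3, 2, 3, 0, 1, 2, 1, 2], [2, 1, 0, 1, 0, 3, 0, 3, 2, 1, 2, 1, 0, 3, 2, 3, 0, 1, 0, 1, 2, 1, 0, 1, 2,
   3, 2, 3, 0, 3, 0, 1, 2, 1], [2, 1, 0, 1, 0, 3, 0, 3, 2, 1, 2, 1, 0, 3, 2, 3, 0, 3, 0, 3, 2, 1, 2, 1, 0, 1, 0, 3, 2, 3, 0, 3, 2, 3], [3, 0, 3, 2,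
   1, 2, 1, 0, 1, 0, 3, 2, 3, 0, 3, 2, 3, 2, 1, 0, 1, 0, 3, 0, 3, 2, 1, 2, 1, 0, 3, 2, 3, 0], [3, 2, 1, 2, 3, 2, 1, 2, 3, 2, 1, 2, 1, 2, 1, 0, 3, 0,
   3, 2, 1, 0, 3, 2, 3, 0, 1, 0, 1, 2, 1, 0, 1, 2, 3], [3, 2, 1, 2, 3, 2, 1, 2, 3, 2, 1, 2, 1, 2, 1, 0, 1, 2, 3, 2, 1, 0, 1, 0, 1, 0, 1, 2, 3, 0, 1,
   0, 1, 0, 3, 2, 3]]),
  (6, [[], [2, 1, 0, 1, 0, 1, 2, 3, 2, 1, 0, 1, 2, 3, 2, 1, 2, 3, 0, 1, 0, 1, 2, 1, 0, 3, 0, 1, 2, 3, 2, 1, 0, 3, 2, 1], [3, 0, 1, 2, 3, 0, 1, 0, 3,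
   2, 1, 2, 3, 0, 3, 2, 3, 2, 1, 0, 3, 0, 1, 0, 3, 2, 3, 0, 1, 0, 3, 2, 3, 2, 3, 0]])]

theorem top4 : Subgroup.closure ({el x4, el y4} : Set M24) = ⊤ :=
  closure_eq_top (X' := u4) (Y' := v4) (by decide +kernel) (by decide +kernel) (by decide +kernel) (by decide +kernel)
    (by decide +kernel) (by decide +kernel) L4 (by decide +kernel) (by decide +kernel) SporadicA.M24Trans.card_M24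

/-- orders 5, 7 -/
def x5 : ℕ := 58641611183022518803728335302641348
/-- second generator -/
def y5 : ℕ := 922586731163666269604220649823963179
/-- inverse -/
def u5 : ℕ := 375656216498375714283082182442536686
/-- inverse -/
def v5 : ℕ := 902294181529044414569873094362957860

/-- chain -/
def L5 : List (ℕ × List (List ℕ)) := [
  (0, [[], [0], [1], [2], [0, 1], [1, 1], [1, 2], [3, 2], [3, 3], [0, 3, 0], [0, 3, 2], [1, 0, 1], [1, 1, 2], [2, 1, 1], [2, 3, 2], [3, 3, 2], [0, 0,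
   3, 0], [0, 0, 3, 2], [0, 1, 2, 2], [0, 3, 3, 2], [1, 0, 3, 2], [2, 1, 2, 2], [3, 3, 3, 2], [1, 1, 0, 3, 2]]),
  (1, [[], [1, 0], [2, 3], [1, 2, 1], [2, 2, 1], [3, 0, 0], [2, 3, 2, 3], [0, 0, 1, 1, 1], [0, 3, 0, 1, 2], [3, 2, 1, 1, 1], [3, 3, 2, 3, 0], [3, 3,
   3, 2, 2], [0, 0, 1, 2, 3, 0], [0, 3, 0, 0, 1, 2], [1, 1, 0, 1, 0, 0], [1, 2, 2, 1, 1, 1], [2, 1, 0, 1, 0, 0], [2, 1, 1, 1, 2, 2], [2, 2, 3, 2, 3,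
   3], [2, 3, 2, 3, 2, 3], [3, 0, 0, 1, 2, 1], [3, 3, 2, 3, 2, 1], [1, 1, 0, 1, 1, 1, 0]]),
  (2, [[], [1, 0, 3, 0, 3], [1, 2, 1, 2, 3], [1, 1, 0, 3, 0, 1], [3, 2, 1, 2, 3, 3], [0, 3, 3, 0, 1, 1, 2], [0, 3, 3, 2, 1, 1, 2], [1, 1, 2, 1, 2, 1,
   1], [2, 2, 1, 1, 0, 1, 0], [2, 3, 2, 1, 0, 1, 1], [2, 3, 2, 3, 3, 0, 0], [2, 3, 3, 0, 3, 2, 3], [3, 3, 2, 3, 0, 1, 0], [0, 1, 1, 0, 0, 3, 3, 0],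
   [0, 3, 0, 1, 2, 1, 2, 1], [0, 3, 3, 0, 0, 1, 1, 2], [1, 0, 3, 0, 0, 3, 0, 3], [2, 1, 1, 2, 2, 3, 3, 2], [3, 0, 1, 1, 1, 0, 0, 3], [3, 3, 2, 3, 3,
   3, 0, 0], [0, 1, 1, 0, 1, 2, 1, 1, 2], [0, 3, 2, 1, 2, 3, 3, 2, 3, 3]]),
  (3, [[], [2, 1, 1, 1, 0, 1, 1, 0], [2, 3, 3, 2, 3, 3, 3, 0], [0, 0, 1, 0, 0, 3, 2, 3, 2], [0, 1, 0, 1, 2, 2, 3, 2, 2], [0, 3, 0, 0, 1, 2, 3, 0, 0],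
   [2, 2, 1, 0, 3, 2, 2, 1, 2], [1, 2, 2, 1, 1, 0, 3, 3, 0, 0], [2, 2, 1, 1, 2, 3, 3, 0, 0, 3], [3, 3, 2, 1, 2, 1, 1, 2, 1, 2], [0, 1, 1, 0, 1, 2, 3,
   2, 3, 3, 2], [0, 3, 2, 3, 0, 0, 1, 1, 0, 0, 1], [2, 1, 0, 0, 1, 1, 0, 3, 0, 3, 2], [2, 2, 3, 3, 2, 2, 1, 0, 1, 2, 1], [3, 0, 0, 1, 1, 2, 1, 2, 3,
   2, 2], [3, 2, 2, 3, 3, 2, 2, 1, 0, 1, 2], [0, 1, 0, 1, 2, 3, 0, 3, 3, 2, 2, 1], [1, 2, 1, 1, 0, 0, 3, 2, 1, 2, 2, 3], [3, 0, 0, 1, 1, 2, 1, 0, 3,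
   2, 3, 2], [3, 0, 3, 3, 2, 3, 0, 3, 2, 3, 3, 3], [3, 2, 3, 3, 3, 0, 3, 3, 3, 0, 0, 3]]),
  (4, [[], [0, 3, 3, 2, 2, 3, 0, 3, 3, 0], [2, 1, 1, 2, 1, 0, 0, 1, 1, 2], [0, 0, 1, 1, 0, 3, 3, 0, 1, 1, 1, 0, 1], [0, 3, 3, 3, 0, 3, 3, 3, 2, 3, 3,
   0, 0], [2, 2, 1, 1, 0, 1, 1, 1, 2, 1, 1, 1, 2], [3, 2, 3, 3, 3, 2, 1, 1, 2, 3, 3, 2, 2], [0, 3, 3, 0, 3, 2, 3, 2, 1, 0, 0, 1, 0, 3], [1, 0, 0, 3,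
   3, 2, 2, 1, 1, 0, 0, 1, 2, 3], [1, 1, 0, 1, 1, 0, 0, 1, 0, 3, 0, 0, 1, 1], [2, 1, 1, 2, 2, 3, 0, 1, 1, 1, 2, 2, 3, 2], [2, 2, 1, 1, 1, 2, 3, 3, 2,
   3, 2, 2, 3, 0], [2, 3, 0, 3, 0, 1, 0, 3, 3, 0, 3, 0, 0, 3], [0, 1, 0, 1, 0, 1, 2, 1, 1, 2, 2, 3, 2, 3, 3], [0, 3, 2, 1, 0, 3, 3, 3, 2, 3, 3, 0, 1,
   2, 3], [1, 1, 0, 1, 0, 0, 3, 3, 0, 3, 2, 3, 2, 3, 2], [0, 0, 1, 0, 0, 1, 1, 2, 2, 3, 3, 3, 2, 1, 1, 2], [1, 1, 2, 1, 2, 2, 3, 3, 3, 0, 3, 2, 1, 0,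
   1, 1], [1, 2, 1, 0, 3, 3, 2, 1, 0, 1, 2, 2, 3, 3, 0, 3], [1, 2, 1, 2, 2, 3, 2, 2, 1, 1, 1, 2, 2, 1, 0, 0]]),
  (5, [[], [1, 2, 1, 2, 1, 1, 1, 0, 1, 1, 0, 3, 0, 0], [2, 3, 2, 3, 0, 0, 3, 3, 0, 1, 0, 0, 1, 2, 1], [1, 2, 2, 3, 3, 2, 2, 1, 1, 1, 0, 3, 0, 1, 1,
   0, 0], [0, 1, 2, 3, 3, 0, 3, 0, 0, 3, 3, 0, 3, 3, 2, 1, 1, 2], [0, 3, 3, 0, 1, 1, 2, 1, 1, 2, 2, 1, 2, 1, 1, 0, 3, 2], [0, 3, 3, 0, 1, 2, 1, 2, 1,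
   0, 3, 2, 1, 1, 2, 1, 1, 1], [3, 0, 1, 0, 3, 2, 3, 3, 2, 1, 0, 0, 0, 1, 2, 1, 2, 1], [3, 0, 3, 0, 3, 2, 2, 2, 3, 0, 1, 1, 0, 1, 2, 3, 2, 1], [3, 3,
   3, 0, 3, 3, 0, 1, 2, 3, 0, 3, 0, 3, 2, 1, 1, 2], [0, 1, 1, 2, 1, 1, 2, 2, 3, 0, 1, 1, 1, 2, 3, 3, 0, 0, 3], [2, 3, 2, 1, 0, 1, 0, 0, 0, 3, 0, 0,
   1, 0, 0, 3, 2, 3, 3], [3, 0, 3, 0, 3, 2, 1, 2, 1, 1, 0, 3, 0, 0, 1, 1, 1, 0, 0, 3], [3, 3, 2, 1, 0, 3, 2, 3, 3, 0, 0, 3, 0, 3, 2, 3, 0, 3, 3, 0],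
   [0, 1, 0, 1, 2, 2, 3, 2, 2, 1, 0, 3, 0, 3, 0, 1, 1, 2, 1, 2, 2, 1, 2, 2], [3, 2, 2, 3, 3, 2, 2, 1, 0, 3, 2, 1, 1, 2, 1, 1, 2, 1, 2, 1, 1, 1, 0, 3,
   0, 3]]),
  (6, [[], [1, 0, 3, 0, 1, 2, 2, 1, 1, 0, 1, 0, 1, 0, 3, 0], [2, 1, 2, 3, 2, 3, 2, 3, 3, 0, 0, 3, 2, 1, 2, 3]])]

theorem top5 : Subgroup.closure ({el x5, el y5} : Set M24) = ⊤ :=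
  closure_eq_top (X' := u5) (Y' := v5) (by decide +kernel) (by decide +kernel) (by decide +kernel) (by decide +kernel)
    (by decide +kernel) (by decide +kernel) L5 (by decide +kernel) (by decide +kernel) SporadicA.M24Trans.card_M24

/-- orders 11, 3 -/
def x6 : ℕ := 541596334142806814324122336963843382
/-- second generator -/
def y6 : ℕ := 732417554822545252438570918860264853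
/-- inverse -/
def u6 : ℕ := 623167589876338079704907419108915909
/-- inverse -/
def v6 : ℕ := 144114665548925991685545967339742407

/-- chain -/
def L6 : List (ℕ × List (List ℕ)) := [
  (0, [[], [0], [1], [2], [3], [0, 0], [0, 3], [1, 0], [1, 2], [2, 1], [2, 2], [3, 0], [0, 1, 0], [0, 3, 0], [1, 0, 3], [1, 2, 2], [2, 1, 0], [2, 3,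
   2], [3, 0, 0], [3, 2, 2], [0, 3, 0, 0], [0, 3, 2, 2], [1, 2, 1, 0], [2, 1, 0, 3]]),
  (1, [[], [0, 1, 2, 1], [3, 0, 3, 2], [0, 0, 0, 0, 3], [0, 3, 0, 0, 0], [1, 0, 0, 3, 2], [1, 2, 2, 2, 2], [2, 2, 2, 1, 2], [0, 1, 0, 0, 1, 2], [0,
   3, 2, 2, 2, 1], [0, 3, 2, 2, 3, 2], [1, 2, 1, 0, 3, 0], [1, 2, 3, 2, 3, 0], [3, 0, 0, 0, 1, 2], [3, 0, 1, 0, 0, 0], [3, 2, 1, 0, 3, 2], [0, 0, 0,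
   3, 2, 3, 0], [0, 0, 1, 0, 0, 3, 0], [0, 1, 0, 0, 0, 0, 0], [2, 1, 0, 3, 0, 3, 0], [2, 2, 2, 2, 2, 3, 2], [2, 2, 3, 2, 3, 0, 0], [3, 0, 0, 0, 3, 2,
   1]]),
  (2, [[], [1, 0, 1], [3, 2, 3], [1, 0, 3, 0, 1], [3, 2, 1, 2, 3], [1, 0, 3, 0, 3, 0, 1], [3, 2, 1, 2, 1, 2, 3], [2, 2, 1, 2, 3, 2, 2, 1], [2, 3, 2,
   2, 1, 0, 1, 0], [2, 3, 2, 3, 0, 0, 1, 0], [0, 1, 0, 1, 0, 0, 0, 1, 0], [0, 3, 2, 1, 2, 2, 1, 0, 3], [1, 2, 3, 0, 0, 3, 0, 1, 2], [2, 3, 2, 2, 2,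
   3, 2, 3, 2], [3, 0, 1, 0, 1, 0, 0, 1, 0], [3, 2, 1, 2, 1, 2, 1, 2, 3], [0, 0, 1, 2, 3, 0, 3, 2, 1, 2], [2, 3, 2, 2, 1, 2, 1, 0, 1, 0], [3, 0, 1,
   2, 1, 2, 3, 2, 1, 0], [3, 0, 3, 2, 3, 2, 2, 2, 2, 2], [3, 2, 2, 3, 2, 2, 2, 3, 2, 2], [2, 3, 0, 0, 3, 2, 2, 3, 0, 3, 0]]),
  (3, [[], [2, 3, 2, 1, 2, 3, 2, 1], [3, 0, 1, 0, 3, 0, 1, 0], [2, 2, 1, 2, 3, 2, 2, 2, 3], [2, 2, 3, 0, 0, 1, 0, 3, 2, 2, 1], [1, 2, 2, 3, 2, 2, 1,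
   2, 3, 0, 0, 0], [2, 2, 2, 1, 0, 3, 0, 0, 1, 0, 0, 3], [0, 0, 0, 1, 0, 0, 3, 0, 3, 2, 2, 1, 2], [0, 3, 0, 1, 2, 2, 1, 0, 0, 1, 2, 1, 0], [0, 3, 2,
   2, 1, 2, 2, 1, 2, 2, 2, 2, 3], [1, 0, 0, 0, 0, 3, 0, 0, 3, 0, 0, 1, 2], [1, 0, 0, 1, 2, 2, 2, 2, 2, 1, 0, 3, 0], [1, 0, 1, 0, 0, 0, 0, 0, 1, 0, 1,
   2, 1], [2, 1, 2, 3, 0, 0, 0, 0, 0, 3, 2, 2, 3], [2, 2, 2, 1, 2, 3, 0, 0, 3, 0, 3, 2, 2], [3, 0, 3, 2, 3, 2, 2, 2, 2, 2, 3, 2, 3], [3, 2, 2, 3, 2,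
   2, 2, 3, 2, 2, 1, 0, 1], [0, 1, 0, 0, 1, 2, 3, 2, 1, 2, 2, 2, 2, 2], [1, 2, 2, 2, 3, 2, 3, 0, 3, 2, 1, 2, 2, 3], [2, 3, 2, 2, 1, 2, 3, 2, 3, 2, 2,
   1, 2, 3], [3, 2, 3, 0, 3, 0, 0, 3, 2, 3, 0, 1, 0, 0]]),
  (4, [[], [1, 2, 2, 3, 0, 3, 2, 2, 1, 2, 2, 3, 0], [1, 2, 3, 0, 1, 0, 0, 1, 2, 2, 1, 0, 0], [2, 1, 0, 0, 3, 0, 0, 1, 2, 1, 0, 0, 3], [2, 2, 3, 0, 0,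
   3, 2, 2, 3, 2, 1, 0, 3], [2, 2, 3, 2, 3, 0, 3, 0, 0, 1, 0, 1, 2], [0, 0, 0, 3, 0, 3, 2, 2, 3, 2, 1, 2, 2, 1, 0], [1, 0, 3, 2, 3, 2, 1, 0, 0, 0, 1,
   0, 1, 2, 2], [2, 1, 0, 0, 0, 0, 1, 2, 3, 2, 3, 0, 0, 1, 2], [2, 1, 2, 2, 3, 0, 0, 0, 1, 2, 3, 2, 1, 0, 0], [2, 2, 3, 0, 0, 1, 0, 3, 2, 1, 0, 3, 0,
   1, 0], [2, 2, 3, 0, 1, 0, 3, 2, 2, 2, 1, 0, 0, 3, 0], [2, 3, 2, 1, 2, 3, 0, 1, 2, 3, 2, 2, 1, 0, 0], [1, 2, 2, 2, 2, 1, 0, 3, 2, 2, 2, 3, 2, 2, 3,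
   2], [2, 2, 2, 3, 0, 0, 1, 2, 2, 2, 2, 1, 2, 3, 2, 3], [2, 3, 2, 3, 0, 1, 2, 1, 2, 2, 1, 2, 1, 2, 3, 0], [3, 0, 0, 1, 0, 3, 0, 3, 2, 2, 3, 2, 3, 2,
   2, 3], [1, 0, 1, 2, 2, 2, 3, 0, 1, 0, 0, 3, 2, 3, 0, 1, 2], [3, 0, 3, 2, 1, 2, 3, 0, 3, 2, 3, 2, 2, 2, 2, 2, 1, 0], [3, 2, 3, 0, 3, 0, 0, 3, 0, 0,
   3, 2, 3, 2, 1, 0, 1, 0, 1]]),
  (5, [[], [0, 0, 0, 3, 0, 0, 1, 2, 1, 0, 0, 3, 0, 0], [2, 2, 1, 2, 2, 3, 0, 3, 2, 2, 1, 2, 2, 2], [0, 1, 2, 3, 2, 1, 2, 3, 2, 2, 3, 0, 3, 2, 1, 0,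
   1], [3, 2, 3, 0, 1, 2, 1, 0, 0, 1, 0, 3, 0, 1, 0, 3, 2], [0, 0, 3, 0, 3, 2, 1, 0, 3, 0, 0, 0, 1, 2, 3, 2, 2, 1], [3, 0, 0, 1, 0, 3, 2, 2, 2, 1, 2,
   3, 0, 1, 2, 1, 2, 2], [3, 2, 3, 2, 2, 2, 3, 2, 2, 1, 0, 3, 2, 2, 2, 2, 1, 2], [3, 2, 3, 2, 2, 2, 1, 2, 2, 1, 2, 2, 2, 3, 2, 2, 2, 3, 0], [0, 0, 3,
   2, 3, 2, 2, 2, 1, 2, 3, 0, 1, 2, 1, 2, 3, 2, 2, 1], [2, 3, 2, 2, 3, 2, 3, 2, 2, 3, 0, 3, 0, 0, 1, 2, 3, 2, 2, 2], [3, 0, 0, 1, 0, 3, 0, 3, 2, 1,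
   0, 3, 0, 0, 0, 1, 0, 1, 2, 2], [0, 3, 2, 1, 2, 2, 1, 0, 3, 0, 0, 0, 0, 3, 0, 0, 1, 0, 0, 3, 0, 1, 2, 1, 0, 3, 0], [1, 0, 0, 0, 1, 0, 3, 0, 0, 3,
   0, 1, 0, 3, 0, 3, 2, 3, 0, 0, 0, 0, 0, 3, 2, 2, 3], [2, 1, 2, 3, 0, 3, 2, 1, 2, 2, 3, 2, 2, 1, 2, 2, 2, 2, 1, 2, 3, 0, 0, 3, 0, 1, 2], [2, 1, 0,
   0, 0, 0, 1, 2, 3, 2, 3, 0, 0, 1, 2, 2, 2, 3, 2, 3, 0, 3, 0, 0, 1, 0, 1, 2]]),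
  (6, [[], [0, 0, 1, 0, 0, 0, 1, 0, 0, 1, 2, 2, 2, 1, 0, 0, 3, 2, 3, 2, 2, 2, 2, 3, 2], [0, 1, 0, 0, 0, 0, 1, 0, 1, 2, 2, 3, 0, 0, 0, 3, 2, 2, 3, 2,
   2, 2, 3, 2, 2]])]

theorem top6 : Subgroup.closure ({el x6, el y6} : Set M24) = ⊤ :=
  closure_eq_top (X' := u6) (Y' := v6) (by decide +kernel) (by decide +kernel) (by decide +kernel) (by decide +kernel)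
    (by decide +kernel) (by decide +kernel) L6 (by decide +kernel) (by decide +kernel) SporadicA.M24Trans.card_M24

/-- orders 23, 3 -/
def x7 : ℕ := 468221211564557231655020623252459749
/-- second generator -/
def y7 : ℕ := 230270397820562969122588279238803734
/-- inverse -/
def u7 : ℕ := 276702194455355867529527631018281065
/-- inverse -/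
def v7 : ℕ := 125155956703011451722623928853776881

/-- chain -/
def L7 : List (ℕ × List (List ℕ)) := [
  (0, [[], [0], [1], [2], [3], [0, 0], [0, 1], [0, 3], [1, 0], [1, 2], [2, 2], [2, 3], [3, 0], [3, 2], [0, 0, 1], [0, 0, 3], [0, 1, 2], [0, 3, 0],
   [1, 0, 3], [1, 2, 2], [2, 1, 2], [2, 2, 3], [0, 0, 0, 1], [1, 2, 1, 2]]),
  (1, [[], [2, 2, 2, 1], [3, 0, 0, 0], [0, 0, 1, 0, 1], [0, 1, 2, 3, 0], [2, 1, 0, 3, 2], [0, 0, 3, 0, 1, 0], [2, 1, 2, 2, 2, 2], [2, 2, 3, 0, 0, 1],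
   [2, 3, 0, 3, 2, 3], [3, 0, 3, 0, 0, 1], [3, 2, 2, 1, 0, 0], [3, 2, 2, 1, 2, 1], [0, 0, 0, 0, 0, 3, 2], [0, 0, 0, 3, 2, 2, 3], [0, 1, 2, 3, 2, 2,
   1], [1, 0, 0, 0, 0, 1, 0], [1, 0, 0, 1, 0, 3, 0], [1, 0, 0, 1, 2, 2, 2], [2, 1, 2, 2, 1, 0, 1], [2, 1, 2, 3, 2, 2, 3], [3, 2, 3, 0, 0, 3, 0], [0,
   3, 2, 3, 2, 1, 0, 1]]),
  (2, [[], [0, 1, 0, 3, 2, 1], [1, 2, 2, 3, 2, 1], [1, 2, 3, 2, 1, 0], [2, 3, 0, 1, 0, 3], [3, 0, 1, 0, 0, 3], [0, 1, 0, 0, 3, 2, 1, 0], [0, 3, 0, 0,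
   0, 1, 0, 0], [2, 2, 3, 2, 2, 2, 1, 2], [2, 3, 0, 1, 2, 2, 3, 2], [2, 3, 2, 3, 2, 1, 2, 1], [3, 0, 1, 0, 3, 2, 1, 0], [3, 0, 3, 0, 1, 0, 1, 0], [0,
   0, 3, 2, 1, 0, 0, 3, 2], [1, 2, 2, 1, 0, 1, 0, 1, 0], [0, 3, 2, 1, 0, 1, 0, 0, 3, 0], [3, 0, 0, 1, 2, 1, 2, 3, 2, 3], [2, 2, 2, 1, 2, 2, 3, 0, 3,
   2, 2], [2, 3, 2, 2, 3, 2, 1, 2, 3, 0, 0], [3, 0, 0, 0, 0, 1, 0, 0, 1, 2, 3], [3, 0, 0, 0, 1, 0, 3, 2, 3, 2, 1], [3, 0, 0, 3, 0, 3, 0, 1, 2, 2,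
   2]]),
  (3, [[], [1, 2, 1, 2, 3, 2, 2, 2, 1], [3, 0, 0, 0, 1, 0, 3, 0, 3], [0, 1, 0, 1, 0, 1, 0, 0, 1, 0, 3], [0, 1, 2, 3, 2, 3, 2, 3, 2, 1, 2], [0, 3, 0,
   1, 0, 1, 0, 1, 0, 3, 2], [1, 0, 0, 0, 3, 0, 3, 2, 1, 2, 3], [1, 0, 3, 0, 1, 2, 1, 2, 2, 2, 3], [1, 2, 2, 2, 3, 0, 1, 0, 0, 0, 0], [1, 2, 3, 2, 2,
   3, 2, 3, 2, 3, 2], [2, 1, 0, 1, 0, 1, 0, 3, 0, 0, 3], [0, 0, 3, 2, 2, 2, 3, 0, 1, 2, 3, 0], [0, 1, 0, 0, 0, 3, 2, 3, 0, 1, 0, 3], [0, 1, 2, 2, 2,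
   1, 0, 3, 0, 3, 0, 3], [1, 2, 3, 2, 1, 0, 3, 0, 1, 2, 3, 2], [2, 1, 0, 3, 2, 1, 0, 0, 0, 1, 2, 2], [2, 2, 1, 2, 1, 2, 1, 2, 1, 2, 1, 0], [2, 1, 2,
   3, 0, 1, 2, 2, 3, 2, 3, 2, 2], [2, 3, 0, 1, 0, 3, 2, 2, 2, 2, 3, 2, 2], [3, 0, 0, 3, 2, 1, 2, 3, 2, 2, 1, 0, 3], [3, 0, 1, 0, 3, 2, 1, 2, 2, 2, 3,
   2, 2]]),
  (4, [[], [1, 0, 1, 2, 3, 2, 2, 1, 2, 1, 2, 1], [3, 0, 0, 0, 3, 2, 3, 0, 0, 0, 3, 2], [3, 0, 3, 0, 3, 0, 0, 1, 0, 3, 2, 3], [0, 0, 1, 2, 2, 2, 3, 2,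
   1, 0, 0, 1, 2, 1], [2, 3, 2, 3, 0, 1, 0, 3, 2, 1, 2, 3, 0, 3], [3, 0, 3, 2, 2, 3, 0, 1, 0, 0, 0, 3, 2, 2], [0, 0, 0, 0, 1, 0, 1, 2, 3, 0, 3, 0, 3,
   2, 3], [0, 1, 2, 3, 0, 1, 2, 1, 2, 1, 0, 1, 0, 0, 3], [1, 0, 1, 2, 1, 2, 1, 0, 3, 2, 3, 2, 2, 2, 2], [0, 0, 1, 2, 1, 0, 3, 0, 0, 1, 0, 0, 0, 1, 0,
   3], [0, 0, 3, 2, 2, 2, 2, 1, 2, 3, 0, 1, 0, 3, 0, 0], [3, 0, 1, 2, 2, 2, 1, 2, 2, 2, 1, 2, 1, 2, 3, 0], [1, 2, 3, 2, 2, 1, 2, 2, 1, 2, 2, 3, 2, 2,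
   3, 2, 2], [2, 3, 2, 2, 2, 2, 3, 0, 0, 1, 2, 1, 0, 1, 0, 3, 2], [3, 0, 3, 0, 0, 3, 2, 2, 3, 2, 3, 0, 1, 0, 0, 1, 2], [3, 0, 3, 0, 1, 0, 1, 2, 1, 2,
   1, 2, 1, 2, 3, 0, 3], [3, 2, 2, 1, 2, 3, 2, 1, 2, 3, 0, 3, 2, 2, 2, 1, 0], [0, 1, 2, 2, 2, 2, 2, 3, 2, 1, 2, 1, 2, 1, 2, 3, 2, 3, 2], [3, 0, 1, 0,
   0, 1, 2, 2, 2, 2, 3, 0, 1, 2, 2, 2, 1, 0, 3]]),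
  (5, [[], [1, 2, 3, 0, 3, 0, 0, 3, 2, 3, 0, 3, 0, 0, 1], [3, 2, 2, 1, 2, 1, 0, 1, 2, 2, 1, 2, 1, 0, 3], [1, 0, 1, 0, 3, 0, 0, 1, 2, 2, 3, 0, 3, 0,
   1, 2], [1, 0, 1, 0, 3, 0, 1, 0, 0, 3, 0, 1, 0, 3, 2, 3], [1, 0, 1, 2, 3, 2, 1, 2, 2, 3, 2, 1, 2, 3, 2, 3], [3, 0, 0, 1, 0, 3, 2, 2, 2, 2, 1, 2, 2,
   2, 2, 2, 1, 2, 1], [3, 0, 3, 0, 0, 0, 0, 0, 3, 0, 0, 0, 0, 1, 2, 3, 2, 2, 1], [0, 3, 2, 1, 2, 1, 0, 0, 3, 2, 1, 0, 0, 3, 0, 1, 0, 3, 2, 3], [1, 0,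
   0, 3, 2, 2, 3, 2, 2, 1, 0, 3, 0, 0, 0, 0, 3, 0, 3, 2], [1, 0, 1, 2, 3, 2, 1, 2, 2, 3, 0, 1, 2, 2, 3, 0, 3, 0, 1, 2], [3, 2, 1, 0, 0, 0, 3, 2, 2,
   1, 2, 3, 2, 2, 3, 2, 3, 2, 1, 0], [2, 3, 2, 3, 2, 3, 0, 1, 2, 3, 2, 2, 2, 1, 2, 2, 2, 2, 3, 2, 2], [2, 2, 2, 2, 3, 2, 1, 0, 0, 0, 1, 0, 0, 0, 1,
   0, 1, 2, 2, 3, 2, 3, 2, 3, 2], [0, 1, 0, 1, 0, 1, 0, 0, 1, 0, 0, 0, 0, 3, 0, 3, 2, 1, 2, 2, 1, 2, 3, 2, 2, 2, 1], [2, 1, 0, 3, 0, 3, 0, 0, 0, 3,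
   0, 0, 3, 2, 1, 2, 2, 3, 2, 1, 0, 3, 0, 0, 0, 1, 0, 0]]),
  (6, [[], [0, 1, 0, 1, 0, 1, 0, 0, 1, 0, 3, 2, 3, 0, 1, 0, 3, 2, 3, 0, 1, 2, 3, 2, 1], [3, 0, 1, 0, 3, 2, 1, 0, 1, 2, 3, 2, 1, 0, 1, 2, 3, 2, 2, 3,
   2, 3, 2, 3, 2]])]

theorem top7 : Subgroup.closure ({el x7, el y7} : Set M24) = ⊤ :=
  closure_eq_top (X' := u7) (Y' := v7) (by decide +kernel) (by decide +kernel) (by decide +kernel) (by decide +kernel)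
    (by decide +kernel) (by decide +kernel) L7 (by decide +kernel) (by decide +kernel) SporadicA.M24Trans.card_M24

end Cfsg.Agent.H399.Gen.PairsM24
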